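import Groth.Agent.RelFlatLib.Basic
import Groth.Agent.RelPerfLib.Basic
import Groth.Agent.S2394
import Groth.Agent.HensSchLib.Basic
import Groth.Agent.TildePCLib.Main

/-!
# Tor amplitude relative to a flat ring map, on the spectrum
-/

set_option autoImplicit false
set_option linter.style.haveILetI false
set_option backward.isDefEq.respectTransparency false
set_option backward.isDefEq.respectTransparency.types false

universe u

open CategoryTheory CategoryTheory.Limits AlgebraicGeometry HomologicalComplex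

attribute [local instance] HasDerivedCategory.standard

namespace Groth.Agent.RelFlatLib

open RelPerfLib (RFlat)

variable {R A : Type u} [CommRing R] [CommRing A] [Algebra R A]

local notation "fA" => Spec.map (CommRingCat.ofHom (algebraMap R A))

theorem isFlatOver_tilde_iff (N : ModuleCat.{u} A) :
    FlatMod.IsFlatOver fA (tilde (R := CommRingCat.of A) N) ↔ RFlat R N := by
  letI : Module R (N : Type u) := Module.compHom _ (algebraMap R A)
  haveI : IsScalarTower R A (N : Type u) := IsScalarTower.of_algebraMap_smul fun _ _ => rfl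
  exact Groth.Agent.S2394.result R A N

theorem isFlatOver_tildeObj_iff (N : ModuleCat.{u} A) :
    FlatMod.IsFlatOver fA ((tilde.functor (CommRingCat.of A)).obj N) ↔ RFlat R N :=
  isFlatOver_tilde_iff N

theorem isFlatOver_tildeCx (F : DRing.Cx A) (hF : ∀ i, RFlat R (F.X i)) (i : ℤ) :
    FlatMod.IsFlatOver fA
      ((((tilde.functor (CommRingCat.of A)).mapHomologicalComplex (ComplexShape.up ℤ)).obj F).X i) :=
  (isFlatOver_tildeObj_iff (F.X i)).2 (hF i)

theorem isZero_of_tilde {N : ModuleCat.{u} A} (h : IsZero ((tilde.functor (CommRingCat.of A)).obj N)) :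
    IsZero N :=
  (IsZero.iff_id_eq_zero N).2 ((tilde.fullyFaithfulFunctor (R := CommRingCat.of A)).map_injective (h.eq_of_src _ _))

theorem exists_truncation {a b : ℤ} (F : DRing.Cx A) (hb : ∀ i, b < i → IsZero (F.X i))
    (hF : ∀ i, RFlat R (F.X i)) (hGE : F.IsGE a)
    (hq : RFlat R (ModuleCat.of A (F.X a ⧸ LinearMap.range (F.d (a - 1) a).hom))) :
    ∃ T : DRing.Cx A, DRing.VanishesOutside T a b ∧ (∀ i, RFlat R (T.X i)) ∧
      Nonempty (DRing.toD T ≅ DRing.toD F) := by
  have : QuasiIso (F.πTruncGE a) := (CochainComplex.quasiIso_πTruncGE_iff F a).mpr hGE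
  refine ⟨F.truncGE a, DRingLib.vanishesOutside_truncGE hb a, fun i => ?_,
    ⟨(asIso (DerivedCategory.Q.map (F.πTruncGE a))).symm⟩⟩
  rcases lt_trichotomy i a with hi | hi | hi
  · have hz := CochainComplex.isZero_of_isStrictlyGE (F.truncGE a) a i hi
    haveI := ModuleCat.subsingleton_of_isZero
      ((ModuleCat.restrictScalars.{u} (algebraMap R A)).map_isZero hz)
    change Module.Flat R _
    infer_instance
  · subst hi
    exact RelPerfLib.rflat_of_iso (DRingLib.truncGEXCoker F i).symm hq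
  · exact RelPerfLib.rflat_of_iso (F.truncGEXIso a i hi).symm (hF i)

/-- A free representative, from the vanishing of cohomology. -/
theorem exists_rflat_rep [Module.Flat R A] {K : Dual.D A} {b : ℤ}
    (hK : ∀ i, b < i → IsZero ((DRingLib.Hn A i).obj K)) :
    ∃ F : DRing.Cx A, (∀ i, b < i → IsZero (F.X i)) ∧ (∀ i, Module.Free A (F.X i)) ∧
      (∀ i, RFlat R (F.X i)) ∧ Nonempty (DRing.toD F ≅ K) := by
  obtain ⟨F, hb, hf, he⟩ := DRingLib.exists_free_rep K b hK
  exact ⟨F, hb, hf, fun i => haveI := hf i; RelPerfLib.rflat_of_flat _, he⟩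

/-- Amplitude over the base gives a representative by modules flat over the base. -/
theorem exists_rep_of_amp [Module.Flat R A] {K : Dual.D A} {a b : ℤ}
    (h : DRing.HasTorAmplitudeIn R a b ((DRing.restrictD (algebraMap R A)).obj K)) :
    ∃ T : DRing.Cx A, DRing.VanishesOutside T a b ∧ (∀ i, RFlat R (T.X i)) ∧
      Nonempty (DRing.toD T ≅ K) := by
  let G := ModuleCat.restrictScalars.{u} (algebraMap R A)
  obtain ⟨K₀, ⟨e₀⟩⟩ : ∃ K₀, Nonempty (DRing.toD K₀ ≅ K) :=
    ⟨_, ⟨DerivedCategory.Q.objObjPreimageIso K⟩⟩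
  obtain ⟨E, hE, hEf, ⟨eE⟩⟩ := h
  have hz : ∀ i, (i < a ∨ b < i) → IsZero (K₀.homology i) := fun i hi => by
    have h1 : IsZero (((G.mapHomologicalComplex (ComplexShape.up ℤ)).obj K₀).homology i) :=
      ((exactAt_iff_isZero_homology _ i).1 (ExactAt.of_isZero (hE i hi))).of_iso
        (((DerivedCategory.homologyFunctorFactors _ i).app _).symm ≪≫
          (DerivedCategory.homologyFunctor _ i).mapIso
            ((G.mapDerivedCategoryFactors.app K₀).symm ≪≫
              (DRing.restrictD (algebraMap R A)).mapIso e₀ ≪≫ eE.symm) ≪≫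
          (DerivedCategory.homologyFunctorFactors _ i).app E)
    haveI := ModuleCat.subsingleton_of_isZero (h1.of_iso ((K₀.sc i).mapHomologyIso G).symm)
    haveI : Subsingleton (K₀.homology i : Type u) := this
    exact ModuleCat.isZero_of_subsingleton _
  obtain ⟨F, hb, -, hF, ⟨eF⟩⟩ := exists_rflat_rep (R := R) (K := K) (b := b) fun i hi =>
    (hz i (Or.inr hi)).of_iso (((DRingLib.Hn A i).mapIso e₀.symm) ≪≫
      (DerivedCategory.homologyFunctorFactors _ i).app K₀)
  let P := (G.mapHomologicalComplex (ComplexShape.up ℤ)).obj F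
  have hA : DRingLib.Amp a b P := DRingLib.amp_of_hasTorAmplitudeIn ⟨E, hE, hEf, ⟨eE⟩⟩
    (KFlatLib.isKFlat_of_bounded_flat P b (fun i hi => G.map_isZero (hb i hi)) hF)
    ((G.mapDerivedCategoryFactors.app F).symm ≪≫ (DRing.restrictD (algebraMap R A)).mapIso eF)
  have hGE : F.IsGE a := (CochainComplex.isGE_iff F a).2 fun i hi =>
    (exactAt_iff_isZero_homology _ i).2 ((hz i (Or.inl hi)).of_iso
      (((DerivedCategory.homologyFunctorFactors _ i).app F).symm ≪≫
        (DerivedCategory.homologyFunctor _ i).mapIso (eF ≪≫ e₀.symm) ≪≫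
        (DerivedCategory.homologyFunctorFactors _ i).app K₀))
  haveI := DRingLib.flat_truncGE hF hA a
  have hq : RFlat R (ModuleCat.of A (F.X a ⧸ LinearMap.range (F.d (a - 1) a).hom)) :=
    Module.Flat.of_linearEquiv (G.mapIso (ModuleCat.cokernelIsoRangeQuotient (F.d (a - 1) a)).symm ≪≫
      PreservesCokernel.iso G (F.d (a - 1) a) ≪≫
      ModuleCat.cokernelIsoRangeQuotient (P.d (a - 1) a) ≪≫
      (DRingLib.truncGEXCoker P a).symm).toLinearEquiv
  obtain ⟨T, h1, h2, ⟨eT⟩⟩ := exists_truncation (R := R) F hb hF hGE hq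
  exact ⟨T, h1, h2, ⟨eT ≪≫ eF⟩⟩

theorem amp_of_rep {K : Dual.D A} {a b : ℤ} (T : DRing.Cx A) (hT : DRing.VanishesOutside T a b)
    (hf : ∀ i, RFlat R (T.X i)) (e : DRing.toD T ≅ K) :
    DRing.HasTorAmplitudeIn R a b ((DRing.restrictD (algebraMap R A)).obj K) :=
  ⟨((ModuleCat.restrictScalars.{u} (algebraMap R A)).mapHomologicalComplex (ComplexShape.up ℤ)).obj T,
    fun i hi => (ModuleCat.restrictScalars.{u} (algebraMap R A)).map_isZero (hT i hi), hf,
    ⟨((ModuleCat.restrictScalars.{u} (algebraMap R A)).mapDerivedCategoryFactors.app T).symm ≪≫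
      (DRing.restrictD (algebraMap R A)).mapIso e⟩⟩

variable [PreservesFiniteLimits (tilde.functor (CommRingCat.of A))]

/-- Representative form of relative tor amplitude of `M~`. -/
theorem relFlatAmp_tildeD_iff [Module.Flat R A] (M : Dual.D A) (a b : ℤ) :
    DCoh.HasRelFlatAmplitudeIn fA a b ((DCoh.tildeD (CommRingCat.of A)).obj M) ↔
      DRing.HasTorAmplitudeIn R a b ((DRing.restrictD (algebraMap R A)).obj M) := by
  constructor
  · intro h
    obtain ⟨K₀, ⟨e₀⟩⟩ : ∃ K₀, Nonempty (DRing.toD K₀ ≅ M) :=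
      ⟨_, ⟨DerivedCategory.Q.objObjPreimageIso M⟩⟩
    let L₀ := ((tilde.functor (CommRingCat.of A)).mapHomologicalComplex (ComplexShape.up ℤ)).obj K₀
    have hamp₀ : DerSch.HasTorAmplitude fA a b L₀ := amp_of_relFlatAmp fA (by
      obtain ⟨E, h1, h2, ⟨e⟩⟩ := h
      exact ⟨E, h1, h2, ⟨e ≪≫ (DCoh.tildeD (CommRingCat.of A)).mapIso e₀.symm ≪≫
        (tilde.functor (CommRingCat.of A)).mapDerivedCategoryFactors.app K₀⟩⟩)
    have hz : ∀ i, (i < a ∨ b < i) → IsZero (K₀.homology i) := fun i hi =>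
      isZero_of_tilde ((isZero_homology_of_ampAt fA hi hamp₀).of_iso ((K₀.sc i).mapHomologyIso (tilde.functor (CommRingCat.of A))).symm)
    obtain ⟨F, hb, -, hF, ⟨eF⟩⟩ := exists_rflat_rep (R := R) (K := M) (b := b) fun i hi =>
      (hz i (Or.inr hi)).of_iso (((DRingLib.Hn A i).mapIso e₀.symm) ≪≫
        (DerivedCategory.homologyFunctorFactors _ i).app K₀)
    let L := ((tilde.functor (CommRingCat.of A)).mapHomologicalComplex (ComplexShape.up ℤ)).obj F
    have hamp : DerSch.HasTorAmplitude fA a b L := fun x =>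
      ampAt_of_iso fA (((tilde.functor (CommRingCat.of A)).mapDerivedCategoryFactors.app K₀).symm ≪≫
        (DCoh.tildeD (CommRingCat.of A)).mapIso (e₀ ≪≫ eF.symm) ≪≫
        (tilde.functor (CommRingCat.of A)).mapDerivedCategoryFactors.app F) (hamp₀ x)
    have hc := isFlatOver_cokernel fA (c := b) (fun i hi => (tilde.functor (CommRingCat.of A)).map_isZero (hb i hi))
      (isFlatOver_tildeCx F hF) hamp
    have hq : RFlat R (ModuleCat.of A (F.X a ⧸ LinearMap.range (F.d (a - 1) a).hom)) :=
      (isFlatOver_tildeObj_iff (R := R) (ModuleCat.of A (F.X a ⧸ LinearMap.range (F.d (a - 1) a).hom))).1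
        (isFlatOver_of_iso fA ((PreservesCokernel.iso (tilde.functor (CommRingCat.of A)) (F.d (a - 1) a)).symm ≪≫
        (tilde.functor (CommRingCat.of A)).mapIso (ModuleCat.cokernelIsoRangeQuotient (F.d (a - 1) a))) hc)
    have hGE : F.IsGE a := (CochainComplex.isGE_iff F a).2 fun i hi =>
      (exactAt_iff_isZero_homology _ i).2 ((hz i (Or.inl hi)).of_iso
        (((DerivedCategory.homologyFunctorFactors _ i).app F).symm ≪≫
          (DerivedCategory.homologyFunctor _ i).mapIso (eF ≪≫ e₀.symm) ≪≫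
          (DerivedCategory.homologyFunctorFactors _ i).app K₀))
    obtain ⟨T, h1, h2, ⟨eT⟩⟩ := exists_truncation (R := R) F hb hF hGE hq
    exact amp_of_rep T h1 h2 (eT ≪≫ eF)
  · intro h
    obtain ⟨T, h1, h2, ⟨e⟩⟩ := exists_rep_of_amp h
    exact ⟨((tilde.functor (CommRingCat.of A)).mapHomologicalComplex (ComplexShape.up ℤ)).obj T, fun i hi => (tilde.functor (CommRingCat.of A)).map_isZero (h1 i hi),
      isFlatOver_tildeCx T h2,
      ⟨((tilde.functor (CommRingCat.of A)).mapDerivedCategoryFactors.app T).symm ≪≫ (DCoh.tildeD (CommRingCat.of A)).mapIso e⟩⟩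

end Groth.Agent.RelFlatLib

namespace Groth.Agent.RelFlatLib

variable {X Y : Scheme.{u}} (f : X ⟶ Y)

/-- On a quasi-compact scheme one interval works. -/
theorem exists_amp_of_loc [CompactSpace X] {F : CochainComplex X.Modules ℤ}
    (h : DerSch.LocFiniteTorAmplitude f F) : ∃ a b : ℤ, DerSch.HasTorAmplitude f a b F := by
  choose V a b hx hV using h
  obtain ⟨t, ht⟩ := CompactSpace.elim_nhds_subcover (fun x => (V x : Set X))
    (fun x => (V x).2.mem_nhds (hx x))
  have hmem : ∀ x : X, ∃ y ∈ t, x ∈ V y := fun x => by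
    have : x ∈ (⊤ : Set X) := trivial
    rw [← ht] at this
    simpa using this
  rcases t.eq_empty_or_nonempty with rfl | hne
  · exact ⟨0, 0, fun x => by obtain ⟨y, hy, -⟩ := hmem x; simp at hy⟩
  refine ⟨t.inf' hne a, t.sup' hne b, fun x => ?_⟩
  obtain ⟨y, hy, hxy⟩ := hmem x
  exact DRingLib.hasTorAmplitudeIn_mono (Finset.inf'_le a hy) (Finset.le_sup' b hy) (hV y x hxy)

end Groth.Agent.RelFlatLib
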