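import Groth.Agent.RelFlatLib.Derived
import Groth.Agent.PerfLib.PCohSummand

/-!
# Relative tor amplitude is local on source and target
-/

set_option autoImplicit false
set_option linter.style.haveILetI false
set_option backward.isDefEq.respectTransparency false
set_option backward.isDefEq.respectTransparency.types false

universe u

open CategoryTheory CategoryTheory.Limits AlgebraicGeometry

attribute [local instance] HasDerivedCategory.standard

namespace Groth.Agent.RelFlatLib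

open Groth.Agent.PerfLib (resD resDQIso)

/-- Tor amplitude moves along an isomorphism of rings. -/
theorem amp_of_ringEquiv {R R' : Type u} [CommRing R] [CommRing R'] (e : R' ≃+* R) {P : DRing.Cx R}
    {a b : ℤ} (h : DRing.HasTorAmplitudeIn R a b (DRing.toD P)) :
    DRing.HasTorAmplitudeIn R' a b (DRing.toD
      (((ModuleCat.restrictScalars.{u} e.toRingHom).mapHomologicalComplex (ComplexShape.up ℤ)).obj P)) := by
  let G := ModuleCat.restrictScalars.{u} e.toRingHom
  obtain ⟨E, hE, hfl, ⟨i⟩⟩ := h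
  refine ⟨(G.mapHomologicalComplex (ComplexShape.up ℤ)).obj E, fun n hn => G.map_isZero (hE n hn),
    fun n => ?_, ⟨(G.mapDerivedCategoryFactors.app E).symm ≪≫ G.mapDerivedCategory.mapIso i ≪≫
      G.mapDerivedCategoryFactors.app P⟩⟩
  exact (RichLib.ModFlat.flat_iff_of_semilinear (R := R') (R' := R) (M := G.obj (E.X n)) (M' := E.X n) e
    (AddEquiv.refl _) fun _ _ => rfl).2 (hfl n)

variable {X Y Z : Scheme.{u}} (g : X ⟶ Y) (l : Y ⟶ Z) [IsOpenImmersion l]

theorem ampAt_target_iff (x : X) (a b : ℤ) (F : CochainComplex X.Modules ℤ) :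
    DerSch.HasTorAmplitudeAt (g ≫ l) a b F x ↔ DerSch.HasTorAmplitudeAt g a b F x := by
  let e := (asIso (l.stalkMap (g x))).commRingCatIsoToRingEquiv
  let i₁ : DerSch.stalkOver (g ≫ l) x ≅ DerSch.stalkOver g x ⋙ ModuleCat.restrictScalars e.toRingHom :=
    Functor.isoWhiskerLeft _ (ModuleCat.restrictScalarsComp' e.toRingHom (g.stalkMap x).hom _
      (by rw [Scheme.Hom.stalkMap_comp]; rfl)) ≪≫ (Functor.associator _ _ _).symm
  let i₂ : DerSch.stalkOver g x ≅ DerSch.stalkOver (g ≫ l) x ⋙ ModuleCat.restrictScalars e.symm.toRingHom :=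
    Functor.isoWhiskerLeft _ (ModuleCat.restrictScalarsComp' e.symm.toRingHom ((g ≫ l).stalkMap x).hom _
      (by
        ext r
        rw [Scheme.Hom.stalkMap_comp]
        exact congrArg (g.stalkMap x).hom (e.apply_symm_apply r).symm)) ≪≫ (Functor.associator _ _ _).symm
  constructor
  · intro h
    exact DRingLib.hasTorAmplitudeIn_of_iso (DerivedCategory.Q.mapIso
      ((NatIso.mapHomologicalComplex i₂ (ComplexShape.up ℤ)).app F)).symm (amp_of_ringEquiv e.symm h)
  · intro h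
    exact DRingLib.hasTorAmplitudeIn_of_iso (DerivedCategory.Q.mapIso
      ((NatIso.mapHomologicalComplex i₁ (ComplexShape.up ℤ)).app F)).symm (amp_of_ringEquiv e h)

theorem ampD_target_iff (x : X) (a b : ℤ) (K : DCoh.D X) : AmpD (g ≫ l) a b K x ↔ AmpD g a b K x := by
  rw [ampD_rep _ (DerivedCategory.Q.objObjPreimageIso K), ampD_rep _ (DerivedCategory.Q.objObjPreimageIso K)]
  exact ampAt_target_iff g l x a b _

variable {U : Scheme.{u}} (j : U ⟶ X) [IsOpenImmersion j] (f : X ⟶ Z)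

theorem ampD_res_iff (x : U) (a b : ℤ) (K : DCoh.D X) :
    AmpD (j ≫ f) a b ((resD j).obj K) x ↔ AmpD f a b K (j x) := by
  let e := DerivedCategory.Q.objObjPreimageIso K
  rw [ampD_rep _ ((resDQIso j _).symm ≪≫ (resD j).mapIso e), ampD_rep _ e]
  exact ampAt_restrict_iff f j x a b _

theorem ampD_congr {f f' : X ⟶ Y} (h : f = f') {a b : ℤ} {K : DCoh.D X} {x : X} :
    AmpD f a b K x ↔ AmpD f' a b K x := by
  subst h; rfl

end Groth.Agent.RelFlatLib

namespace Groth.Agent.RelFlatLib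

open Groth.Agent.PerfLib (resD)

variable {X S : Scheme.{u}} (f : X ⟶ S) [Flat f]

theorem flat_specMap_appLE {U : X.Opens} (hU : IsAffineOpen U) {V : S.Opens} (hV : IsAffineOpen V)
    (h : U ≤ f ⁻¹ᵁ V) : Flat (Spec.map (f.appLE V U h)) :=
  Flat.SpecMap_iff.2 (f.flat_appLE hV hU h)

theorem ampD_chart_iff {U : X.Opens} (hU : IsAffineOpen U) {V : S.Opens} (hV : IsAffineOpen V)
    (h : U ≤ f ⁻¹ᵁ V) (a b : ℤ) (K : DCoh.D X) (y : Spec Γ(X, U)) :
    AmpD (Spec.map (f.appLE V U h)) a b ((resD hU.fromSpec).obj K) y ↔ AmpD f a b K (hU.fromSpec y) := by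
  rw [← ampD_res_iff hU.fromSpec f y a b K,
    ampD_congr (IsAffineOpen.SpecMap_appLE_fromSpec f hV hU h).symm,
    ampD_target_iff (Spec.map (f.appLE V U h)) hV.fromSpec y a b]

theorem loc_chart {U : X.Opens} (hU : IsAffineOpen U) {V : S.Opens} (hV : IsAffineOpen V)
    (h : U ≤ f ⁻¹ᵁ V) {K : DCoh.D X} (hK : DCoh.LocHasFiniteRelTorDim f K) :
    DCoh.LocHasFiniteRelTorDim (Spec.map (f.appLE V U h)) ((resD hU.fromSpec).obj K) := by
  haveI := flat_specMap_appLE f hU hV h
  refine (loc_iff_ampD _).2 fun y => ?_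
  obtain ⟨W, a, b, hx, hW⟩ := (loc_iff_ampD f).1 hK (hU.fromSpec y)
  exact ⟨hU.fromSpec ⁻¹ᵁ W, a, b, hx, fun y' hy' => (ampD_chart_iff f hU hV h a b K y').2 (hW _ hy')⟩

theorem loc_of_charts {K : DCoh.D X}
    (H : ∀ x : X, ∃ (U : X.Opens) (hU : IsAffineOpen U) (V : S.Opens) (_ : IsAffineOpen V)
      (h : U ≤ f ⁻¹ᵁ V), x ∈ U ∧
        DCoh.LocHasFiniteRelTorDim (Spec.map (f.appLE V U h)) ((resD hU.fromSpec).obj K)) :
    DCoh.LocHasFiniteRelTorDim f K := by
  refine (loc_iff_ampD f).2 fun x => ?_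
  obtain ⟨U, hU, V, hV, h, hxU, hK⟩ := H x
  haveI := flat_specMap_appLE f hU hV h
  obtain ⟨y, rfl⟩ : x ∈ Set.range hU.fromSpec := by rw [hU.range_fromSpec]; exact hxU
  obtain ⟨W, a, b, hy, hW⟩ := (loc_iff_ampD _).1 hK y
  refine ⟨hU.fromSpec ''ᵁ W, a, b, ⟨y, hy, rfl⟩, ?_⟩
  rintro _ ⟨y', hy', rfl⟩
  exact (ampD_chart_iff f hU hV h a b K y').1 (hW y' hy')

end Groth.Agent.RelFlatLib
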