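import Groth.Agent.RelPerfLib.BaseChange
import Groth.Agent.RelFlatLib.Local
import Groth.Agent.RelFlatLib.Affine
import Groth.Agent.LpullTildeLib.Main
import Groth.Agent.PerfFibreLib.Spec
import Groth.Agent.PerfFibreLib.OpenLocus
import Groth.Agent.LCILocusLib.Scheme
import Groth.Agent.S7264
import Groth.Agent.TildeDerLib.Affine
import Groth.Agent.AffPushPCLib.Main
import Groth.Agent.DRingLib.LBaseChange

/-!
# Base change of relatively perfect complexes, for a pushout square of rings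
-/

set_option autoImplicit false
set_option linter.style.haveILetI false

universe u

open CategoryTheory CategoryTheory.Limits HomologicalComplex
open CochainComplex (mappingCone)
open scoped TensorProduct

attribute [local instance] HasDerivedCategory.standard

namespace Groth.Agent.RelFlatLib

open RelPerfLib

theorem isRelPerfect_lBaseChange_isPushout {R A R' A' : Type u} [CommRing R] [CommRing A] [Algebra R A]
    [CommRing R'] [Algebra R R'] [CommRing A'] [Algebra R' A'] [Algebra A A'] [Algebra R A']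
    [IsScalarTower R A A'] [IsScalarTower R R' A'] [Algebra.IsPushout R A R' A'] [Module.Flat R A]
    [DRing.HasLBaseChange (algebraMap A A')]
    (K : Dual.D A) (hK : Dual2.IsRelPerfect R A K) :
    Dual2.IsRelPerfect R' A' ((DRing.LBaseChange (algebraMap A A')).obj K) := by
  obtain ⟨F, E, g, a, b, hFb, hFf, hg, hE, hT, ⟨eF⟩⟩ := exists_rep hK
  let ι : A →+* A' := algebraMap A A'
  haveI : Algebra.IsPushout R R' A A' := Algebra.IsPushout.symm inferInstance
  have hp : RelPCLib.IsPush (algebraMap R R') (algebraMap R A) (algebraMap A A')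
      (algebraMap R' A') ((IsScalarTower.algebraMap_eq R A A').symm.trans
        (IsScalarTower.algebraMap_eq R R' A')) := RelPCLib.isPush_of_isPushout
  obtain ⟨e⟩ := RelPCLib.nonempty_sqIso hp
  let C := mappingCone g
  let Cr := ((ModuleCat.restrictScalars.{u} (algebraMap R A)).mapHomologicalComplex (ComplexShape.up ℤ)).obj C
  have hq : QuasiIso ((DRingLib.extCx ι).map g) := by
    refine KFlatLib.quasiIso_map_of_cone _ g fun i => ?_
    have hC : ∀ i, Cr.ExactAt i := fun i => by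
      have h0 : C.ExactAt i := (exactAt_iff_isZero_homology _ i).2 ((KFlatLib.acyclic_cone_iff g).mpr hg i)
      exact h0.map (ModuleCat.restrictScalars.{u} (algebraMap R A))
    have hCb : ∀ i, b < i → IsZero (Cr.X i) := fun i hi => by
      refine (ModuleCat.restrictScalars.{u} _).map_isZero ?_
      exact (IsZero.iff_id_eq_zero _).2 ((CochainComplex.mappingCone.ext_from_iff g (i + 1) i rfl _ _).2
        ⟨(hFb (i + 1) (by omega)).eq_of_src _ _, (hE i (Or.inr hi)).eq_of_src _ _⟩)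
    have hCt : ∀ i, RelPCLib.TA (ModuleCat.of R R') (Cr.X i) := fun i => by
      refine RelPCLib.ta_mappingCone (algebraMap R A) g i ?_ ?_
      · haveI := (hFf (i + 1)).2
        haveI := rflat_of_flat (R := R) (F.X (i + 1))
        exact RelPCLib.ta_of_flat _
      · haveI := (hT i).2
        exact RelPCLib.ta_of_flat _
    have hex : (((ModuleCat.extendScalars.{u, u, u} (algebraMap R R')).mapHomologicalComplex
        (ComplexShape.up ℤ)).obj Cr).ExactAt i := by
      rw [exactAt_iff' _ (i - 1) i (i + 1) (by simp) (by simp),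
        ShortComplex.ShortExact.moduleCat_exact_iff_function_exact]
      exact RelPCLib.exact_extend_of_ta (algebraMap R R') rfl Cr hC b hCb hCt i
    have h2 : (((ModuleCat.restrictScalars.{u} (algebraMap R' A')).mapHomologicalComplex
        (ComplexShape.up ℤ)).obj ((DRingLib.extCx ι).obj C)).ExactAt i :=
      hex.of_iso (HomologicalComplex.Hom.isoOfComponents
        (C₁ := ((ModuleCat.extendScalars.{u, u, u} (algebraMap R R')).mapHomologicalComplex (ComplexShape.up ℤ)).obj Cr)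
        (fun j => e.app (C.X j)) fun j k _ => (e.hom.naturality (C.d j k)).symm)
    refine (exactAt_iff_isZero_homology _ i).1 ?_
    rw [exactAt_iff' _ (i - 1) i (i + 1) (by simp) (by simp),
      ShortComplex.ShortExact.moduleCat_exact_iff_function_exact] at h2 ⊢
    exact h2
  haveI : IsIso (DerivedCategory.Q.map ((DRingLib.extCx ι).map g)) :=
    (DerivedCategory.isIso_Q_map_iff_quasiIso (φ := (DRingLib.extCx ι).map g)).2 hq
  have eL : DerivedCategory.Q.obj ((DRingLib.extCx ι).obj F) ≅ (DRing.LBaseChange ι).obj K :=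
    (DRingLib.lBaseChangeObjIso ι F
      (DRingLib.isKFlat_of_free F b hFb fun i => (hFf i).2)).symm ≪≫ (DRing.LBaseChange ι).mapIso eF
  refine ⟨⟨(DRingLib.extCx ι).obj F, b,
    fun i hi => (ModuleCat.extendScalars.{u, u, u} ι).map_isZero (hFb i hi),
    fun i => ⟨DRingLib.finite_extCx ι i (hFf i).1, DRingLib.free_extCx ι i (hFf i).2⟩, ⟨eL⟩⟩, a, b, ?_⟩
  refine ⟨((ModuleCat.restrictScalars.{u} (algebraMap R' A')).mapHomologicalComplex
      (ComplexShape.up ℤ)).obj ((DRingLib.extCx ι).obj E),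
    fun i hi => (ModuleCat.restrictScalars.{u} _).map_isZero
      ((ModuleCat.extendScalars.{u, u, u} ι).map_isZero (hE i hi)), fun i => ?_,
    ⟨((ModuleCat.restrictScalars.{u} (algebraMap R' A')).mapDerivedCategoryFactors.app _).symm ≪≫
      (DRing.restrictD (algebraMap R' A')).mapIso
        ((asIso (DerivedCategory.Q.map ((DRingLib.extCx ι).map g))).symm ≪≫ eL)⟩⟩
  haveI := (hT i).2
  haveI : Module.Flat R' ((ModuleCat.restrictScalars.{u} (algebraMap R A) ⋙
      ModuleCat.extendScalars.{u, u, u} (algebraMap R R')).obj (E.X i)) :=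
    Module.Flat.of_linearEquiv (DRingLib.extendScalarsEquiv
      ((ModuleCat.restrictScalars.{u} (algebraMap R A)).obj (E.X i)))
  exact Module.Flat.of_linearEquiv (e.app (E.X i)).toLinearEquiv.symm

end Groth.Agent.RelFlatLib

namespace Groth.Agent.RelFlatLib

open AlgebraicGeometry
open Groth.Agent.PerfLib (resD)

set_option backward.isDefEq.respectTransparency false
set_option backward.isDefEq.respectTransparency.types false

/-- On an affine chart, base change preserves relative perfectness. -/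
theorem loc_chart_baseChange {X S X' S' : Scheme.{u}} (f : X ⟶ S) [Flat f] [LocallyOfFinitePresentation f]
    (f' : X' ⟶ S') [Flat f'] [LocallyOfFinitePresentation f'] (g : S' ⟶ S) (g' : X' ⟶ X)
    (hc : IsPullback g' f' f g) [DCoh.HasLpull g'] {T : S.Opens} (hT : IsAffineOpen T) {T' : S'.Opens}
    (hT' : IsAffineOpen T') (eT : T' ≤ g ⁻¹ᵁ T) {U : X.Opens} (hU : IsAffineOpen U) (e : U ≤ f ⁻¹ᵁ T)
    (K : DCoh.D X) (hq : DCoh.IsQCohD K) (hpc : ∀ m : ℤ, DCoh.IsPseudoCoherentD m K)
    (hK : DCoh.LocHasFiniteRelTorDim f K) :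
    ∃ hU' : IsAffineOpen (g' ⁻¹ᵁ U ⊓ f' ⁻¹ᵁ T'),
      DCoh.LocHasFiniteRelTorDim (Spec.map (f'.appLE T' (g' ⁻¹ᵁ U ⊓ f' ⁻¹ᵁ T') inf_le_right))
        ((resD hU'.fromSpec).obj ((DCoh.Lpull g').obj K)) := by
  obtain ⟨hU', hp⟩ := LCILocusLib.pullback_chart hc hT hT' eT hU e
  refine ⟨hU', ?_⟩
  let U' := g' ⁻¹ᵁ U ⊓ f' ⁻¹ᵁ T'
  letI : Algebra Γ(S, T) Γ(X, U) := (f.appLE T U e).hom.toAlgebra
  letI : Algebra Γ(S, T) Γ(S', T') := (g.appLE T T' eT).hom.toAlgebra
  letI : Algebra Γ(S', T') Γ(X', U') := (f'.appLE T' U' inf_le_right).hom.toAlgebra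
  letI : Algebra Γ(X, U) Γ(X', U') := (g'.appLE U U' inf_le_left).hom.toAlgebra
  letI : Algebra Γ(S, T) Γ(X', U') := (f.appLE T U e ≫ g'.appLE U U' inf_le_left).hom.toAlgebra
  haveI : IsScalarTower Γ(S, T) Γ(X, U) Γ(X', U') := IsScalarTower.of_algebraMap_eq fun _ => rfl
  haveI : IsScalarTower Γ(S, T) Γ(S', T') Γ(X', U') :=
    IsScalarTower.of_algebraMap_eq' (congrArg CommRingCat.Hom.hom hp.w)
  haveI : Algebra.IsPushout Γ(S, T) Γ(X, U) Γ(S', T') Γ(X', U') :=
    CommRingCat.isPushout_iff_isPushout.mp hp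
  haveI : Module.Flat Γ(S, T) Γ(X, U) := f.flat_appLE hT hU e
  haveI : Module.Flat Γ(S', T') Γ(X', U') := f'.flat_appLE hT' hU' inf_le_right
  haveI : Algebra.FinitePresentation Γ(S, T) Γ(X, U) := f.finitePresentation_appLE hT hU e
  haveI : Algebra.FinitePresentation Γ(S', T') Γ(X', U') := f'.finitePresentation_appLE hT' hU' inf_le_right
  haveI : PreservesFiniteLimits (tilde.functor (CommRingCat.of Γ(X, U))) :=
    HensSchLib.tilde_preservesFiniteLimits _
  haveI : PreservesFiniteLimits (tilde.functor (CommRingCat.of Γ(X', U'))) :=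
    HensSchLib.tilde_preservesFiniteLimits _
  haveI : Flat (Spec.map (CommRingCat.ofHom (algebraMap Γ(S, T) Γ(X, U)))) :=
    flat_specMap_appLE f hU hT e
  haveI : Flat (Spec.map (CommRingCat.ofHom (algebraMap Γ(S', T') Γ(X', U')))) :=
    flat_specMap_appLE f' hU' hT' inf_le_right
  obtain ⟨M, ⟨eM⟩⟩ := (TildeDerLib.isQCohD_iff (CommRingCat.of Γ(X, U)) _).1
    (AffPushPCLib.isQCohD_res hU.fromSpec hq)
  have hM : Dual2.IsRelPerfect Γ(S, T) Γ(X, U) M := by
    refine (Groth.Agent.S7264.result _ _ M).1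
      ⟨fun m => PerfLib.isPC_of_iso eM.symm (PerfLib.isPC_res (hpc m) hU.fromSpec), ?_⟩
    refine (loc_iff_ampD _).2 fun y => ?_
    obtain ⟨W, a, b, hy, hW⟩ := (loc_iff_ampD _).1 (loc_chart f hU hT e hK) y
    exact ⟨W, a, b, hy, fun y' hy' => ampD_of_iso _ eM.symm (hW y' hy')⟩
  haveI := DRingLib.hasLBaseChange (algebraMap Γ(X, U) Γ(X', U'))
  have hM' := isRelPerfect_lBaseChange_isPushout (R' := Γ(S', T')) (A' := Γ(X', U')) M hM
  obtain ⟨-, h₂⟩ := (Groth.Agent.S7264.result _ _ _).2 hM'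
  let k := Spec.map (CommRingCat.ofHom (algebraMap Γ(X, U) Γ(X', U')))
  haveI := KFlatLib.hasLpull k
  haveI := KFlatLib.hasLpull hU'.fromSpec
  haveI := KFlatLib.hasLpull hU.fromSpec
  haveI := KFlatLib.hasLpull (hU'.fromSpec ≫ g')
  haveI := KFlatLib.hasLpull (k ≫ hU.fromSpec)
  have hk : k ≫ hU.fromSpec = hU'.fromSpec ≫ g' :=
    IsAffineOpen.SpecMap_appLE_fromSpec g' hU hU' inf_le_left
  obtain ⟨t⟩ := LpullTildeLib.nonempty_iso (algebraMap Γ(X, U) Γ(X', U'))
  obtain ⟨r⟩ := PerfFibreLib.nonempty_lpull_res hU.fromSpec K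
  obtain ⟨r'⟩ := PerfFibreLib.nonempty_lpull_res hU'.fromSpec ((DCoh.Lpull g').obj K)
  obtain ⟨c⟩ := KFlatLib.lpull_comp k hU.fromSpec
  obtain ⟨c'⟩ := KFlatLib.lpull_comp hU'.fromSpec g'
  obtain ⟨d⟩ := PerfFibreLib.nonempty_lpull_congr hk K
  let i := t.app M ≪≫ (DCoh.Lpull k).mapIso (eM ≪≫ r.symm) ≪≫ c.app K ≪≫ d ≪≫ (c'.app K).symm ≪≫ r'
  refine (loc_iff_ampD _).2 fun y => ?_
  obtain ⟨W, a, b, hy, hW⟩ := (loc_iff_ampD _).1 h₂ y
  exact ⟨W, a, b, hy, fun y' hy' => ampD_of_iso _ i (hW y' hy')⟩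

end Groth.Agent.RelFlatLib
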