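import Groth.Agent.RelFlatLib.Local
import Groth.Agent.RefHullLib.Reflexive
import Groth.Agent.S6947

/-!
# Tor dimension of a morphism and tor amplitude along a composite
-/

set_option autoImplicit false
set_option linter.style.haveILetI false
set_option backward.isDefEq.respectTransparency false
set_option backward.isDefEq.respectTransparency.types false

universe u

open CategoryTheory CategoryTheory.Limits AlgebraicGeometry HomologicalComplex

attribute [local instance] HasDerivedCategory.standard

namespace Groth.Agent.RelFlatLib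

variable {X Y Z : Scheme.{u}} (f : X ⟶ Y) (g : Y ⟶ Z)

/-- Tor dimension at a point is a statement about the map of local rings. -/
theorem unitAt_iff (y : Y) (a b : ℤ) :
    letI := (g.stalkMap y).hom.toAlgebra
    DerSch.HasTorAmplitudeAt g a b (DerSch.unitCx Y) y ↔
      DRing.HasTorAmplitudeIn (Z.presheaf.stalk (g.base y)) a b
        (Dual.inD (Z.presheaf.stalk (g.base y)) (Y.presheaf.stalk y)) := by
  letI := (g.stalkMap y).hom.toAlgebra
  obtain ⟨e⟩ := RefHullLib.nonempty_stalk_unit Y y
  let i₁ : (DerSch.stalkOver g y).obj (Coh.structureModule Y) ≅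
      ModuleCat.of (Z.presheaf.stalk (g.base y)) (Y.presheaf.stalk y) :=
    (LinearEquiv.toModuleIso
      ({ e.toAddEquiv with map_smul' := fun r x => e.map_smul ((g.stalkMap y).hom r) x } :
        (Y.presheaf.stalk y) ≃ₗ[Z.presheaf.stalk (g.base y)]
          ((DerSch.stalkOver g y).obj (Coh.structureModule Y)))).symm
  let i : DRing.toD ((DerSch.stalkCxOver g y).obj (DerSch.unitCx Y)) ≅
      Dual.inD (Z.presheaf.stalk (g.base y)) (Y.presheaf.stalk y) :=
    DerivedCategory.Q.mapIso ((singleMapHomologicalComplex (DerSch.stalkOver g y) (ComplexShape.up ℤ) 0).app _ ≪≫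
      (single _ _ 0).mapIso i₁)
  exact ⟨DRingLib.hasTorAmplitudeIn_of_iso i, DRingLib.hasTorAmplitudeIn_of_iso i.symm⟩

theorem ampAt_comp (n : ℕ) {F : CochainComplex X.Modules ℤ} {a b : ℤ} {x : X}
    (hg : DerSch.HasTorAmplitudeAt g (-(n : ℤ)) 0 (DerSch.unitCx Y) (f.base x))
    (hF : DerSch.HasTorAmplitudeAt f a b F x) : DerSch.HasTorAmplitudeAt (f ≫ g) (a - n) b F x := by
  letI := (g.stalkMap (f.base x)).hom.toAlgebra
  let R := ModuleCat.restrictScalars.{u} (g.stalkMap (f.base x)).hom
  let i : DerSch.stalkOver (f ≫ g) x ≅ DerSch.stalkOver f x ⋙ R :=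
    Functor.isoWhiskerLeft _ (ModuleCat.restrictScalarsComp' (g.stalkMap (f.base x)).hom (f.stalkMap x).hom _
      (by rw [Scheme.Hom.stalkMap_comp]; rfl)) ≪≫ (Functor.associator _ _ _).symm
  have h := Groth.Agent.S6947.result (A := Z.presheaf.stalk (g.base (f.base x)))
    (B := Y.presheaf.stalk (f.base x)) n ((unitAt_iff g (f.base x) _ _).1 hg)
    (DRing.toD ((DerSch.stalkCxOver f x).obj F)) a b hF
  exact DRingLib.hasTorAmplitudeIn_of_iso
    (R.mapDerivedCategoryFactors.app ((DerSch.stalkCxOver f x).obj F) ≪≫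
      (DerivedCategory.Q.mapIso ((NatIso.mapHomologicalComplex i (ComplexShape.up ℤ)).app F)).symm) h

theorem amp_comp (n : ℕ) (hg : DerSch.HasTorDimLE g n) {F : CochainComplex X.Modules ℤ} {a b : ℤ}
    (hF : DerSch.HasTorAmplitude f a b F) : DerSch.HasTorAmplitude (f ≫ g) (a - n) b F :=
  fun x => ampAt_comp f g n (hg (f.base x)) (hF x)

end Groth.Agent.RelFlatLib
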