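import Groth.Agent.RelFlatLib.Local
import Groth.Agent.KFlatLib.PerfectPull
import Groth.Agent.TildePCLib.Main
import Groth.Agent.TildeDerLib.Affine
import Groth.Agent.AffPushPCLib.Main
import Groth.Agent.RelPCSchLib.Main
import Groth.Agent.RelFlatLib.Affine
import Groth.Agent.S5611
import Groth.Prelude.Def_KSix

/-!
# Flat amplitude and perfect amplitude
-/

set_option autoImplicit false
set_option linter.style.haveILetI false
set_option backward.isDefEq.respectTransparency false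
set_option backward.isDefEq.respectTransparency.types false

universe u

open CategoryTheory CategoryTheory.Limits AlgebraicGeometry

attribute [local instance] HasDerivedCategory.standard

namespace Groth.Agent.RelFlatLib

open Groth.Agent.PerfLib (resD resC resDQIso isPC_of_iso)

variable {X : Scheme.{u}}

theorem flatAmp_iff_ampD (K : DCoh.D X) (a b : ℤ) :
    DCoh.HasFlatAmplitudeIn a b K ↔ ∀ x : X, AmpD (𝟙 X) a b K x := by
  obtain ⟨F, ⟨e⟩⟩ : ∃ F : CochainComplex X.Modules ℤ, Nonempty (DCoh.toD X F ≅ K) :=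
    ⟨_, ⟨DerivedCategory.Q.objObjPreimageIso K⟩⟩
  rw [flatAmp_iff_relFlatAmp_id]
  constructor
  · rintro ⟨E, h1, h2, ⟨e'⟩⟩ x
    exact (ampD_rep _ e' x).2 (amp_of_relFlatAmp (𝟙 X) ⟨E, h1, h2, ⟨Iso.refl _⟩⟩ x)
  · intro h
    obtain ⟨E, h1, h2, ⟨e'⟩⟩ := relFlatAmp_of_amp (𝟙 X) fun x => (ampD_rep _ e x).1 (h x)
    exact ⟨E, h1, h2, ⟨e' ≪≫ e⟩⟩

theorem ampD_id_res_iff {U : Scheme.{u}} (j : U ⟶ X) [IsOpenImmersion j] (x : U) (a b : ℤ)
    (K : DCoh.D X) : AmpD (𝟙 U) a b ((resD j).obj K) x ↔ AmpD (𝟙 X) a b K (j x) := by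
  rw [← ampD_target_iff (𝟙 U) j x a b, ampD_congr ((Category.id_comp j).trans (Category.comp_id j).symm),
    ampD_res_iff]

theorem flatAmp_res {U : Scheme.{u}} (j : U ⟶ X) [IsOpenImmersion j] {K : DCoh.D X} {a b : ℤ}
    (h : DCoh.HasFlatAmplitudeIn a b K) : DCoh.HasFlatAmplitudeIn a b ((resD j).obj K) :=
  (flatAmp_iff_ampD _ a b).2 fun x => (ampD_id_res_iff j x a b K).2 ((flatAmp_iff_ampD K a b).1 h (j x))

theorem isPC_of_isPerfect {K : DCoh.D X} (h : DCoh.IsPerfect K) (m : ℤ) :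
    DCoh.IsPseudoCoherentD m K := (PerfLib.isPC_iff m K).2 fun x => by
  obtain ⟨V, j, hj, y, hy, G, hG, ⟨e⟩⟩ := (PerfLib.isPerfect_iff K).1 h x
  exact ⟨V, j, hj, y, hy, G, e.inv, hG, PerfLib.IAE.of_isIso _ m⟩

theorem isPerfect_of_perfectAmp {K : DCoh.D X} {a b : ℤ} (h : KSix.HasPerfectAmplitudeIn a b K) :
    DCoh.IsPerfect K := fun x => by
  obtain ⟨V, hx, hV⟩ := h x
  refine ⟨V, hx, fun F hF => ?_⟩
  obtain ⟨E, h1, h2, he⟩ := hV F hF
  exact ⟨E, ⟨⟨a, b, h1⟩, h2⟩, he⟩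

/-- Perfect amplitude gives flat amplitude in the same interval. -/
theorem flatAmp_of_perfectAmp {K : DCoh.D X} {a b : ℤ} (h : KSix.HasPerfectAmplitudeIn a b K) :
    DCoh.HasFlatAmplitudeIn a b K :=
  (flatAmp_iff_ampD K a b).2 fun x => by
    obtain ⟨V, hx, hV⟩ := h x
    obtain ⟨E, h1, h2, ⟨e⟩⟩ := hV _ ⟨DerivedCategory.Q.objObjPreimageIso K⟩
    have hE : DCoh.HasFlatAmplitudeIn a b ((resD V.ι).obj K) :=
      ⟨E, h1, fun i => KFlatLib.isFlat_of_isFinLocFree (h2 i), ⟨e.symm ≪≫ (resDQIso V.ι _).symm ≪≫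
        (resD V.ι).mapIso (DerivedCategory.Q.objObjPreimageIso K)⟩⟩
    exact (ampD_id_res_iff V.ι ⟨x, hx⟩ a b K).1 ((flatAmp_iff_ampD _ a b).1 hE ⟨x, hx⟩)

theorem isQCohD_of_pc_amp {K : DCoh.D X} {a b : ℤ} (hpc : DCoh.IsPseudoCoherentD (a - 1) K)
    (hamp : DCoh.HasFlatAmplitudeIn a b K) : DCoh.IsQCohD K := fun i => by
  rcases lt_or_ge i a with hi | hi
  · obtain ⟨E, hE, -, ⟨e⟩⟩ := hamp
    have hz : IsZero (DCoh.HD K i) := (Groth.Agent.PerfLib.isZero_HD_of_exactAt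
      (HomologicalComplex.ExactAt.of_isZero (hE i (Or.inl hi)))).of_iso
        ((DerivedCategory.homologyFunctor X.Modules i).mapIso e.symm)
    exact QCohLib.isQCoh_of_isZero hz
  · exact (RelPCSchLib.isQCoh_HD_of_isPC hpc).1 i (by omega)

/-- The perfect amplitude of a pseudo-coherent object of flat amplitude `[a, b]`. -/
theorem perfectAmp_of_pc_amp {K : DCoh.D X} {a b : ℤ} (hab : a ≤ b)
    (hpc : DCoh.IsPseudoCoherentD (a - 1) K) (hamp : DCoh.HasFlatAmplitudeIn a b K) :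
    KSix.HasPerfectAmplitudeIn a b K := fun x => by
  obtain ⟨U, hU, hxU, -⟩ := exists_isAffineOpen_mem_and_subset (x := x) (U := ⊤) trivial
  refine ⟨U, hxU, fun F hF => ?_⟩
  obtain ⟨eF⟩ := hF
  let A : Type u := Γ(X, U)
  haveI : PreservesFiniteLimits (tilde.functor (CommRingCat.of A)) :=
    HensSchLib.tilde_preservesFiniteLimits _
  obtain ⟨M, ⟨eM⟩⟩ := (TildeDerLib.isQCohD_iff (CommRingCat.of A) _).1
    (AffPushPCLib.isQCohD_res hU.fromSpec (isQCohD_of_pc_amp hpc hamp))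
  have hM₁ : DRing.IsPseudoCoherent A (a - 1) M :=
    TildePCLib.isPseudoCoherent_of_tildeD (isPC_of_iso eM.symm (PerfLib.isPC_res hpc hU.fromSpec))
  have hM₂ : DRing.HasTorAmplitudeIn A a b M := by
    have hid : Spec.map (CommRingCat.ofHom (algebraMap A A)) = 𝟙 (Spec (CommRingCat.of A)) :=
      Spec.map_id (CommRingCat.of A)
    obtain ⟨E, h1, h2, ⟨e⟩⟩ := flatAmp_res hU.fromSpec hamp
    have h : DCoh.HasFlatAmplitudeIn a b ((DCoh.tildeD (CommRingCat.of A)).obj M) :=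
      ⟨E, h1, h2, ⟨e ≪≫ eM.symm⟩⟩
    rw [flatAmp_iff_relFlatAmp_id, ← hid, relFlatAmp_tildeD_iff (R := A)] at h
    obtain ⟨T, h1, h2, he⟩ := exists_rep_of_amp h
    exact ⟨T, h1, fun i => h2 i, he⟩
  obtain ⟨P, hP1, hP2, ⟨eP⟩⟩ := (Groth.Agent.S5611.result M a b hab).1 ⟨hM₁, hM₂⟩
  let T := (PerfFibreLib.tC (CommRingCat.of A)).obj P
  haveI : IsOpenImmersion hU.isoSpec.hom := inferInstance
  obtain ⟨c⟩ := PerfLib.nonempty_resD_comp hU.isoSpec.hom hU.fromSpec K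
  obtain ⟨d⟩ := PerfLib.nonempty_resD_congr
    (f := hU.isoSpec.hom ≫ hU.fromSpec) (g := U.ι) (by rw [← hU.isoSpec_inv_ι, Iso.hom_inv_id_assoc]) K
  refine ⟨(resC hU.isoSpec.hom).obj T, fun i hi => (Groth.Agent.PerfLib.res hU.isoSpec.hom).map_isZero
      ((tilde.functor (CommRingCat.of A)).map_isZero (hP1 i hi)),
    fun i => PerfLib.isFinLocFree_res hU.isoSpec.hom ((TildePCLib.isStrictlyPerfect_tC hP1 hP2).2 i),
    ⟨(resDQIso U.ι F).symm ≪≫ (resD U.ι).mapIso eF ≪≫ d.symm ≪≫ c ≪≫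
      (resD hU.isoSpec.hom).mapIso (eM.symm ≪≫
        (DCoh.tildeD (CommRingCat.of A)).mapIso eP.symm ≪≫
        (tilde.functor (CommRingCat.of A)).mapDerivedCategoryFactors.app P) ≪≫
      resDQIso hU.isoSpec.hom T⟩⟩

end Groth.Agent.RelFlatLib
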