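import Groth.Agent.DRingLib.Amplitude
import Groth.Agent.KFlatLib.TorAmp
import Groth.Agent.KFlatLib.StalkPull
import Groth.Agent.RichLib.ModFlatGlobal
import Groth.Prelude.Def_DCoh3
import Groth.Prelude.Def_DerSch
import Groth.Prelude.Def_DTor2

/-!
# Tor amplitude relative to a flat morphism: stalks and representatives
-/

set_option autoImplicit false
set_option linter.style.haveILetI false
set_option backward.isDefEq.respectTransparency false
set_option backward.isDefEq.respectTransparency.types false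

universe u

open CategoryTheory CategoryTheory.Limits AlgebraicGeometry HomologicalComplex

attribute [local instance] HasDerivedCategory.standard

namespace Groth.Agent.RelFlatLib

open KFlatLib

variable {X Y : Scheme.{u}} (f : X ⟶ Y)

instance preservesFiniteLimits_stalkOver (x : X) : PreservesFiniteLimits (DerSch.stalkOver f x) :=
  inferInstance

instance preservesFiniteColimits_stalkOver (x : X) : PreservesFiniteColimits (DerSch.stalkOver f x) :=
  inferInstance

instance preservesHomology_stalkOver (x : X) : (DerSch.stalkOver f x).PreservesHomology :=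
  inferInstance

theorem ampAt_of_iso {F G : CochainComplex X.Modules ℤ} (e : DCoh.toD X F ≅ DCoh.toD X G) {a b : ℤ}
    {x : X} (h : DerSch.HasTorAmplitudeAt f a b F x) : DerSch.HasTorAmplitudeAt f a b G x :=
  DRingLib.hasTorAmplitudeIn_of_iso (((DerSch.stalkOver f x).mapDerivedCategoryFactors.app F).symm ≪≫
    (DerSch.stalkOver f x).mapDerivedCategory.mapIso e ≪≫
    (DerSch.stalkOver f x).mapDerivedCategoryFactors.app G) h

/-- Stalks of the restriction to an open subscheme, over the local ring of the base. -/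
noncomputable def stalkOverRestrict {U : Scheme.{u}} (j : U ⟶ X) [IsOpenImmersion j] (x : U) :
    Scheme.Modules.restrictFunctor j ⋙ DerSch.stalkOver (j ≫ f) x ≅ DerSch.stalkOver f (j x) := by
  let φ := (j.stalkMap x).hom
  let ψ := (f.stalkMap (j x)).hom
  let adj := ModuleCat.extendRestrictScalarsAdj.{u, u, u} φ
  haveI : (ModuleCat.restrictScalars.{u} φ).IsEquivalence :=
    (ModuleCat.restrictScalarsEquivalenceOfRingEquiv
      (asIso (j.stalkMap x)).commRingCatIsoToRingEquiv).isEquivalence_functor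
  haveI := adj.isEquivalence_left_of_isEquivalence_right
  exact Functor.isoWhiskerRight (Scheme.Modules.restrictFunctorIsoPullback j) _ ≪≫
    (Functor.associator _ _ _).symm ≪≫
    Functor.isoWhiskerRight (stalkPullIso j x) (ModuleCat.restrictScalars ((j ≫ f).stalkMap x).hom) ≪≫
    Functor.associator _ _ _ ≪≫
    Functor.isoWhiskerLeft _ (Functor.isoWhiskerLeft _
      (ModuleCat.restrictScalarsComp' ψ φ ((j ≫ f).stalkMap x).hom
        (by rw [Scheme.Hom.stalkMap_comp]; rfl)) ≪≫
      (Functor.associator _ _ _).symm ≪≫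
      Functor.isoWhiskerRight (asIso adj.unit).symm _ ≪≫ Functor.leftUnitor _)

theorem ampAt_restrict_iff {U : Scheme.{u}} (j : U ⟶ X) [IsOpenImmersion j] (x : U) (a b : ℤ)
    (F : CochainComplex X.Modules ℤ) :
    DerSch.HasTorAmplitudeAt (j ≫ f) a b
        (((Scheme.Modules.restrictFunctor j).mapHomologicalComplex _).obj F) x ↔
      DerSch.HasTorAmplitudeAt f a b F (j x) := by
  let e := DerivedCategory.Q.mapIso
    ((NatIso.mapHomologicalComplex (stalkOverRestrict f j x) (ComplexShape.up ℤ)).app F)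
  exact ⟨DRingLib.hasTorAmplitudeIn_of_iso e, DRingLib.hasTorAmplitudeIn_of_iso e.symm⟩

theorem isFlatOver_of_isFlat [Flat f] {M : X.Modules} (h : FlatMod.IsFlat M) : FlatMod.IsFlatOver f M :=
  fun x => by
    letI := (f.stalkMap x).hom.toAlgebra
    letI := FlatMod.moduleStalkOver f M x
    haveI : Module.Flat (Y.presheaf.stalk (f.base x)) (X.presheaf.stalk x) := Flat.stalkMap f x
    haveI : Module.Flat (X.presheaf.stalk x) (M.presheaf.stalk x) := h x
    haveI : IsScalarTower (Y.presheaf.stalk (f.base x)) (X.presheaf.stalk x) (M.presheaf.stalk x) :=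
      IsScalarTower.of_algebraMap_smul fun _ _ => rfl
    exact Module.Flat.trans (Y.presheaf.stalk (f.base x)) (X.presheaf.stalk x) (M.presheaf.stalk x)

theorem isFlatOver_of_iso {M N : X.Modules} (e : M ≅ N) (h : FlatMod.IsFlatOver f M) :
    FlatMod.IsFlatOver f N := fun x => (RichLib.ModFlat.isFlatOverAt_iso f e x).1 (h x)

theorem isFlatOver_of_isZero {M : X.Modules} (h : IsZero M) : FlatMod.IsFlatOver f M := fun x => by
  haveI : Subsingleton ↑((DerSch.stalkOver f x).obj M) :=
    ModuleCat.subsingleton_of_isZero ((DerSch.stalkOver f x).map_isZero h)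
  change Module.Flat _ ↑((DerSch.stalkOver f x).obj M)
  infer_instance

/-- Cohomology sheaves vanish outside an interval of tor amplitude. -/
theorem isZero_homology_of_ampAt {F : CochainComplex X.Modules ℤ} {a b i : ℤ} (hi : i < a ∨ b < i)
    (h : DerSch.HasTorAmplitude f a b F) : IsZero (F.homology i) := by
  rw [isZero_iff_forall_stalk]
  intro x
  obtain ⟨E, hE, -, ⟨e⟩⟩ := h x
  have h1 : IsZero (((DerSch.stalkCxOver f x).obj F).homology i) :=
    ((exactAt_iff_isZero_homology _ i).1 (ExactAt.of_isZero (hE i hi))).of_iso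
      (((DerivedCategory.homologyFunctorFactors _ i).app E).symm ≪≫
        (DerivedCategory.homologyFunctor _ i).mapIso e ≪≫
        (DerivedCategory.homologyFunctorFactors _ i).app _).symm
  haveI := ModuleCat.subsingleton_of_isZero
    (h1.of_iso ((F.sc i).mapHomologyIso (DerSch.stalkOver f x)).symm)
  haveI : Subsingleton ↑((DerSch.stalkFunctor X x).obj (F.homology i)) := this
  exact ModuleCat.isZero_of_subsingleton _

/-- The cokernel at the lower end of the amplitude is flat over the base. -/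
theorem isFlatOver_cokernel {L : CochainComplex X.Modules ℤ} {a b c : ℤ}
    (hc : ∀ i, c < i → IsZero (L.X i)) (hfl : ∀ i, FlatMod.IsFlatOver f (L.X i))
    (h : DerSch.HasTorAmplitude f a b L) : FlatMod.IsFlatOver f (cokernel (L.d (a - 1) a)) := fun x => by
  let P := (DerSch.stalkCxOver f x).obj L
  have hP : ∀ i, Module.Flat (Y.presheaf.stalk (f.base x)) (P.X i) := fun i => hfl i x
  have hK : DRing.IsKFlat _ P := KFlatLib.isKFlat_of_bounded_flat P c
    (fun i hi => (DerSch.stalkOver f x).map_isZero (hc i hi)) hP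
  have hA : DRingLib.Amp a b P := DRingLib.amp_of_hasTorAmplitudeIn (h x) hK (Iso.refl _)
  have hq := DRingLib.flat_truncGE hP hA a
  change Module.Flat _ ↑((DerSch.stalkOver f x).obj (cokernel (L.d (a - 1) a)))
  exact Module.Flat.of_linearEquiv (PreservesCokernel.iso (DerSch.stalkOver f x) (L.d (a - 1) a) ≪≫
    ModuleCat.cokernelIsoRangeQuotient (P.d (a - 1) a) ≪≫
    (DRingLib.truncGEXCoker P a).symm).toLinearEquiv

/-- A bounded above complex of modules flat over the base with tor amplitude `[a, b]` truncates to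
such a complex supported in degrees at least `a`. -/
theorem relFlatAmp_of_rep {L : CochainComplex X.Modules ℤ} {a b : ℤ}
    (hb : ∀ i, b < i → IsZero (L.X i)) (hfl : ∀ i, FlatMod.IsFlatOver f (L.X i))
    (h : DerSch.HasTorAmplitude f a b L) : DCoh.HasRelFlatAmplitudeIn f a b (DCoh.toD X L) := by
  have hGE : L.IsGE a := (CochainComplex.isGE_iff L a).2 fun i hi =>
    (exactAt_iff_isZero_homology _ i).2 (isZero_homology_of_ampAt f (Or.inl hi) h)
  have : QuasiIso (L.πTruncGE a) := (CochainComplex.quasiIso_πTruncGE_iff L a).mpr hGE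
  have : IsIso (DerivedCategory.Q.map (L.πTruncGE a)) := inferInstance
  let eA : (L.truncGE a).X a ≅ cokernel (L.d (a - 1) a) := L.truncGEXIsoOpcycles a ≪≫
    (L.opcyclesIsCokernel (a - 1) a (by simp)).coconePointUniqueUpToIso (colimit.isColimit _)
  refine ⟨L.truncGE a, fun i hi => ?_, fun i => ?_,
    ⟨(asIso (DerivedCategory.Q.map (L.πTruncGE a))).symm⟩⟩
  · rcases lt_trichotomy i a with hi' | hi' | hi'
    · exact CochainComplex.isZero_of_isStrictlyGE (L.truncGE a) a i hi'
    · subst hi'
      have hz : IsZero (L.X i) := hb i (by omega)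
      exact (IsZero.of_epi (cokernel.π (L.d (i - 1) i)) hz).of_iso eA
    · exact (hb i (by omega)).of_iso (L.truncGEXIso a i hi')
  · rcases lt_trichotomy i a with hi | hi | hi
    · exact isFlatOver_of_isZero f (CochainComplex.isZero_of_isStrictlyGE (L.truncGE a) a i hi)
    · subst hi
      exact isFlatOver_of_iso f eA.symm (isFlatOver_cokernel f hb hfl h)
    · exact isFlatOver_of_iso f (L.truncGEXIso a i hi).symm (hfl i)

theorem relFlatAmp_of_amp [Flat f] {F : CochainComplex X.Modules ℤ} {a b : ℤ}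
    (h : DerSch.HasTorAmplitude f a b F) : DCoh.HasRelFlatAmplitudeIn f a b (DCoh.toD X F) := by
  have hLE : F.IsLE b := (CochainComplex.isLE_iff F b).2 fun i hi =>
    (exactAt_iff_isZero_homology _ i).2 (isZero_homology_of_ampAt f (Or.inr hi) h)
  have : QuasiIso (F.ιTruncLE b) := (CochainComplex.quasiIso_ιTruncLE_iff F b).mpr hLE
  obtain ⟨L, α, hb, hflat, hα⟩ := exists_flat_resolution (F.truncLE b) b
    (fun i hi => CochainComplex.isZero_of_isStrictlyLE _ b i hi)
  have : IsIso (DerivedCategory.Q.map (α ≫ F.ιTruncLE b)) := inferInstance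
  let e : DCoh.toD X L ≅ DCoh.toD X F := asIso (DerivedCategory.Q.map (α ≫ F.ιTruncLE b))
  obtain ⟨E, h₁, h₂, ⟨e'⟩⟩ := relFlatAmp_of_rep f hb (fun i => isFlatOver_of_isFlat f (hflat i))
    fun x => ampAt_of_iso f e.symm (h x)
  exact ⟨E, h₁, h₂, ⟨e' ≪≫ e⟩⟩

theorem amp_of_relFlatAmp {F : CochainComplex X.Modules ℤ} {a b : ℤ}
    (h : DCoh.HasRelFlatAmplitudeIn f a b (DCoh.toD X F)) : DerSch.HasTorAmplitude f a b F := by
  obtain ⟨E, hE, hfl, ⟨e⟩⟩ := h
  exact fun x => ampAt_of_iso f e ⟨(DerSch.stalkCxOver f x).obj E,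
    fun i hi => (DerSch.stalkOver f x).map_isZero (hE i hi), fun i => hfl i x, ⟨Iso.refl _⟩⟩

theorem relFlatAmp_iff [Flat f] {F : CochainComplex X.Modules ℤ} {a b : ℤ} :
    DCoh.HasRelFlatAmplitudeIn f a b (DCoh.toD X F) ↔ DerSch.HasTorAmplitude f a b F :=
  ⟨amp_of_relFlatAmp f, relFlatAmp_of_amp f⟩

theorem loc_iff [Flat f] {K : DCoh.D X} {F : CochainComplex X.Modules ℤ} (e : DCoh.toD X F ≅ K) :
    DCoh.LocHasFiniteRelTorDim f K ↔ DerSch.LocFiniteTorAmplitude f F := by
  constructor
  · intro h x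
    obtain ⟨V, a, b, hx, hV⟩ := h x
    exact ⟨V, a, b, hx, fun x' hx' =>
      (ampAt_restrict_iff f V.ι ⟨x', hx'⟩ a b F).1 (amp_of_relFlatAmp _ (hV F ⟨e⟩) ⟨x', hx'⟩)⟩
  · intro h x
    obtain ⟨V, a, b, hx, hV⟩ := h x
    exact ⟨V, a, b, hx, fun F' ⟨e'⟩ => relFlatAmp_of_amp _ fun x' =>
      (ampAt_restrict_iff f V.ι x' a b F').2 (ampAt_of_iso f (e ≪≫ e'.symm) (hV _ x'.2))⟩

theorem isFlatOver_id_iff (M : X.Modules) : FlatMod.IsFlatOver (𝟙 X) M ↔ FlatMod.IsFlat M := by
  refine forall_congr' fun x => ?_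
  letI := FlatMod.moduleStalkOver (𝟙 X) M x
  refine RichLib.ModFlat.flat_iff_of_semilinear (R := X.presheaf.stalk ((𝟙 X : X ⟶ X).base x))
    (R' := X.presheaf.stalk x) (M := M.presheaf.stalk x) (M' := M.presheaf.stalk x)
    (RingEquiv.refl (X.presheaf.stalk x)) (AddEquiv.refl _) fun r m => ?_
  have h : (Scheme.Hom.stalkMap (𝟙 X) x).hom r = r := by rw [Scheme.Hom.stalkMap_id]; rfl
  exact congrArg (fun s : X.presheaf.stalk x => s • (m : M.presheaf.stalk x)) h

theorem flatAmp_iff_relFlatAmp_id (K : DCoh.D X) (a b : ℤ) :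
    DCoh.HasFlatAmplitudeIn a b K ↔ DCoh.HasRelFlatAmplitudeIn (𝟙 X) a b K :=
  exists_congr fun _ => and_congr_right' (and_congr_left' (forall_congr' fun _ => (isFlatOver_id_iff _).symm))

end Groth.Agent.RelFlatLib
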