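import Groth.Agent.RelFlatLib.OpenAmp
import Groth.Agent.PerfLib.PCohSummand

/-!
# Isomorphisms of stalks of pseudo-coherent objects spread out
-/

set_option autoImplicit false
set_option linter.style.haveILetI false
set_option backward.isDefEq.respectTransparency false
set_option backward.isDefEq.respectTransparency.types false

universe u

open CategoryTheory CategoryTheory.Limits AlgebraicGeometry HomologicalComplex Pretriangulated
open CochainComplex (mappingCone)
open TopologicalSpace (Opens)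

attribute [local instance] HasDerivedCategory.standard

namespace Groth.Agent.RelFlatLib

open KFlatLib
open Groth.Agent.PerfLib (IAE)

variable {X : Scheme.{u}}

/-- The stalk functor of an open subscheme through restriction. -/
noncomputable def stalkResExt {V : Scheme.{u}} (j : V ⟶ X) [IsOpenImmersion j] (v : V) :
    PerfLib.res j ⋙ DerSch.stalkFunctor V v ≅
      DerSch.stalkFunctor X (j v) ⋙ ModuleCat.extendScalars.{u, u, u} (j.stalkMap v).hom :=
  Functor.isoWhiskerRight (Scheme.Modules.restrictFunctorIsoPullback j) _ ≪≫ stalkPullIso j v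

/-- Extension of scalars along the stalk map of an open immersion is an equivalence. -/
theorem isEquivalence_extend_stalk {V : Scheme.{u}} (j : V ⟶ X) [IsOpenImmersion j] (v : V) :
    (ModuleCat.extendScalars.{u, u, u} (j.stalkMap v).hom).IsEquivalence := by
  haveI : (ModuleCat.restrictScalars.{u} (j.stalkMap v).hom).IsEquivalence :=
    (ModuleCat.restrictScalarsEquivalenceOfRingEquiv
      (asIso (j.stalkMap v)).commRingCatIsoToRingEquiv).isEquivalence_functor
  exact (ModuleCat.extendRestrictScalarsAdj.{u, u, u} (j.stalkMap v).hom).isEquivalence_left_of_isEquivalence_right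

theorem isIso_stalk_res {V : Scheme.{u}} (j : V ⟶ X) [IsOpenImmersion j] (v : V) {M N : X.Modules}
    (φ : M ⟶ N) [IsIso ((DerSch.stalkFunctor X (j v)).map φ)] :
    IsIso ((DerSch.stalkFunctor V v).map ((PerfLib.res j).map φ)) := by
  have : IsIso ((DerSch.stalkFunctor X (j v) ⋙
      ModuleCat.extendScalars.{u, u, u} (j.stalkMap v).hom).map φ) := by
    rw [Functor.comp_map]
    infer_instance
  exact (NatIso.isIso_map_iff (stalkResExt j v) φ).mpr this

/-- The open set where the stalk of a module of finite type vanishes. -/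
theorem exists_isZero_nhd {M : X.Modules} (h : CohB1.IsFT M) {x : X}
    (hx : IsZero ((DerSch.stalkFunctor X x).obj M)) :
    ∃ W : X.Opens, x ∈ W ∧ ∀ y ∈ W, IsZero ((DerSch.stalkFunctor X y).obj M) := by
  refine ⟨⟨(CohB1.support M)ᶜ, (QCohLib.isClosed_support M h).isOpen_compl⟩,
    fun hs => hs (ModuleCat.subsingleton_of_isZero hx), fun y hy => ?_⟩
  haveI : Subsingleton ↑((DerSch.stalkFunctor X y).obj M) := not_not.mp hy
  exact ModuleCat.isZero_of_subsingleton _

/-- A pseudo-coherent object with vanishing stalk cohomology from degree `n` on has vanishing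
cohomology from degree `n` on near the point. -/
theorem exists_nhd_acyclicGE {C : DCoh.D X} (hC : ∀ m : ℤ, DCoh.IsPseudoCoherentD m C) (n : ℤ) :
    ∀ (k : ℕ), (∀ i, n + k ≤ i → IsZero (DCoh.HD C i)) → ∀ {x : X},
      (∀ i, n ≤ i → IsZero ((DerSch.stalkFunctor X x).obj (DCoh.HD C i))) →
        ∃ W : X.Opens, x ∈ W ∧ ∀ i, n ≤ i → ∀ y ∈ W, IsZero ((DerSch.stalkFunctor X y).obj (DCoh.HD C i)) := by
  intro k
  induction k generalizing n with
  | zero =>
    intro h x _
    exact ⟨⊤, trivial, fun i hi y _ => (DerSch.stalkFunctor X y).map_isZero (h i (by simpa using hi))⟩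
  | succ k ih =>
    intro h x hx
    obtain ⟨W, hxW, hW⟩ := ih (n + 1) (fun i hi => h i (by push_cast; omega))
      (x := x) (fun i hi => hx i (by omega))
    let CW := (PerfLib.resD W.ι).obj C
    have hz : ∀ i, n < i → IsZero (DCoh.HD CW i) := fun i hi => by
      refine IsZero.of_iso ((isZero_iff_forall_stalk _).2 fun y => ?_) (PerfLib.resHDIso W.ι C i)
      exact ((ModuleCat.extendScalars.{u, u, u} (W.ι.stalkMap y).hom).map_isZero
        (hW i (by omega) (W.ι y) y.2)).of_iso ((stalkResExt W.ι y).app _)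
    let w : (W : Scheme.{u}) := ⟨x, hxW⟩
    have hft := PerfLib.isFT_HD_top (PerfLib.isPC_res (hC n) W.ι) hz
    have hw : IsZero ((DerSch.stalkFunctor _ w).obj (DCoh.HD CW n)) :=
      ((ModuleCat.extendScalars.{u, u, u} (W.ι.stalkMap w).hom).map_isZero (hx n le_rfl)).of_iso
        ((DerSch.stalkFunctor _ w).mapIso (PerfLib.resHDIso W.ι C n) ≪≫ (stalkResExt W.ι w).app _)
    obtain ⟨W', hwW', hW'⟩ := exists_isZero_nhd hft hw
    refine ⟨W.ι ''ᵁ W', ⟨w, hwW', rfl⟩, fun i hi => ?_⟩
    rintro _ ⟨y, hy, rfl⟩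
    rcases hi.eq_or_lt with rfl | hlt
    · haveI := isEquivalence_extend_stalk W.ι y
      have h0 : IsZero ((ModuleCat.extendScalars.{u, u, u} (W.ι.stalkMap y).hom).obj
          ((DerSch.stalkFunctor X (W.ι y)).obj (DCoh.HD C n))) :=
        (hW' y hy).of_iso ((DerSch.stalkFunctor _ y).mapIso (PerfLib.resHDIso W.ι C n) ≪≫
          (stalkResExt W.ι y).app _).symm
      exact (IsZero.iff_id_eq_zero _).2
        ((ModuleCat.extendScalars.{u, u, u} (W.ι.stalkMap y).hom).map_injective (h0.eq_of_src _ _))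
    · exact hW i (by omega) _ y.2

/-- A family of maps between stalks out of finite free modules lifts to all small neighbourhoods. -/
theorem exists_lift_le (x : X) {q : ℕ} {N : X.Modules}
    (f : (DerSch.stalkFunctor X x).obj (FlatMod.freeMod X q) ⟶ (DerSch.stalkFunctor X x).obj N) :
    ∃ U : X.Opens, x ∈ U ∧ ∀ W : X.Opens, W ≤ U → ∃ h : (∐ fun _ : Fin q => freeU W) ⟶ N,
      (DerSch.stalkFunctor X x).map h = (DerSch.stalkFunctor X x).map (resFree W q) ≫ f := by
  obtain ⟨U, hU, h, hh⟩ := exists_lift x f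
  refine ⟨U, hU, fun W hW => ⟨Limits.Sigma.map (fun _ => resU hW) ≫ h, ?_⟩⟩
  rw [Functor.map_comp, hh, ← Category.assoc, ← Functor.map_comp]
  refine congrArg (fun t => (DerSch.stalkFunctor X x).map t ≫ f) (Sigma.hom_ext _ _ fun j => ?_)
  simp only [resFree, Sigma.ι_map_assoc, Sigma.ι_map]
  rw [← Category.assoc (resU hW), ← Category.assoc (resU hW)]
  refine congrArg (fun t => (t ≫ _) ≫ _) ?_
  rw [resU_comp]
  rw [resU, secMap, secMap, Equiv.apply_symm_apply]
  exact congrArg (freeUEquiv _ _).symm (TopCat.Presheaf.restrict_restrict hW le_top (genU (⊤ : X.Opens)))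

/-- Chain maps between stalks out of bounded complexes of finite free modules spread out. -/
theorem exists_chain_nhd (x : X) (P F : CochainComplex X.Modules ℤ) (hP : FreeBdd P)
    (ψ : ((DerSch.stalkFunctor X x).mapHomologicalComplex (ComplexShape.up ℤ)).obj P ⟶
      ((DerSch.stalkFunctor X x).mapHomologicalComplex (ComplexShape.up ℤ)).obj F) :
    ∃ (V : Scheme.{u}) (j : V ⟶ X) (_ : IsOpenImmersion j) (v : V) (_ : j v = x)
      (φ : (PerfLib.resC j).obj P ⟶ (PerfLib.resC j).obj F),
      ∀ i, QuasiIsoAt ψ i →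
        QuasiIsoAt (((DerSch.stalkFunctor V v).mapHomologicalComplex (ComplexShape.up ℤ)).map φ) i := by
  obtain ⟨⟨a, b, hv⟩, hfree⟩ := hP
  choose q hq using hfree
  let e : ∀ i, P.X i ≅ FlatMod.freeMod X (q i) := fun i => (hq i).some
  choose U hU hlift using fun i =>
    exists_lift_le x ((DerSch.stalkFunctor X x).map (e i).inv ≫ ψ.f i)
  let W : X.Opens := (Finset.Icc a b).inf U
  have hxW : x ∈ W := Finset.inf_induction (p := fun W : X.Opens => x ∈ W) trivial
    (fun _ h₁ _ h₂ => ⟨h₁, h₂⟩) fun i _ => hU i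
  let Φ := PerfLib.res W.ι
  let w : (W : Scheme.{u}) := ⟨x, hxW⟩
  let G := DerSch.stalkFunctor (W : Scheme.{u}) w
  let Ext := ModuleCat.extendScalars.{u, u, u} (W.ι.stalkMap w).hom
  let θ := stalkResExt W.ι w
  haveI hEq : Ext.IsEquivalence := isEquivalence_extend_stalk W.ι w
  have hk : ∀ i, ∃ k : Φ.obj (P.X i) ⟶ Φ.obj (F.X i),
      G.map k = θ.hom.app _ ≫ Ext.map (ψ.f i) ≫ θ.inv.app _ := fun i => by
    by_cases hi : i ∈ Finset.Icc a b
    · obtain ⟨h, hh⟩ := hlift i W (Finset.inf_le hi)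
      have : IsIso (Φ.map (resFree W (q i))) :=
        (NatIso.isIso_map_iff (Scheme.Modules.restrictFunctorIsoPullback W.ι) _).mpr
          (isIso_pullback_resFree W (q i))
      refine ⟨Φ.map (e i).hom ≫ inv (Φ.map (resFree W (q i))) ≫ Φ.map h, ?_⟩
      have nat : ∀ {M N : X.Modules} (m : M ⟶ N), G.map (Φ.map m) =
          θ.hom.app M ≫ Ext.map ((DerSch.stalkFunctor X x).map m) ≫ θ.inv.app N := fun m => by
        have hn := θ.hom.naturality m
        rw [← Category.assoc]
        refine Eq.trans ?_ (congrArg (· ≫ θ.inv.app _) hn)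
        exact ((Category.assoc _ _ _).trans ((congrArg (_ ≫ ·) (θ.hom_inv_id_app _)).trans
          (Category.comp_id _))).symm
      have : IsIso (Φ.map ((resFree W (q i)) ≫ (e i).inv)) := by
        rw [Functor.map_comp]
        infer_instance
      rw [← cancel_epi (G.map (Φ.map ((resFree W (q i)) ≫ (e i).inv)))]
      have e1 : Φ.map (resFree W (q i) ≫ (e i).inv) ≫
          Φ.map (e i).hom ≫ inv (Φ.map (resFree W (q i))) ≫ Φ.map h = Φ.map h := by
        rw [Functor.map_comp, Category.assoc, ← Φ.map_comp_assoc (e i).inv, Iso.inv_hom_id,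
          Φ.map_id, Category.id_comp, IsIso.hom_inv_id_assoc]
      rw [← Functor.map_comp, e1, nat, nat]
      have e2 : (DerSch.stalkFunctor X x).map h =
          (DerSch.stalkFunctor X x).map (resFree W (q i) ≫ (e i).inv) ≫ ψ.f i :=
        hh.trans ((Category.assoc _ _ _).symm.trans
          (congrArg (· ≫ ψ.f i) ((DerSch.stalkFunctor X x).map_comp _ _).symm))
      refine (congrArg (fun t => θ.hom.app _ ≫ Ext.map t ≫ θ.inv.app _) e2).trans ?_
      rw [Functor.map_comp Ext, Category.assoc, Category.assoc, Category.assoc]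
      exact congrArg (fun t => θ.hom.app _ ≫ Ext.map _ ≫ t)
        (θ.inv_hom_id_app_assoc (P.X i) _).symm
    · have hz : IsZero (P.X i) := hv i (by simp only [Finset.mem_Icc] at hi; omega)
      exact ⟨0, ((G.map_isZero (Φ.map_isZero hz))).eq_of_src _ _⟩
  choose k hk using hk
  have hcomm : ∀ i j, G.map (k i ≫ Φ.map (F.d i j)) = G.map (Φ.map (P.d i j) ≫ k j) := fun i j => by
    rw [Functor.map_comp, Functor.map_comp, hk, hk]
    have h1 : θ.inv.app (F.X i) ≫ G.map (Φ.map (F.d i j)) =
        Ext.map ((DerSch.stalkFunctor X x).map (F.d i j)) ≫ θ.inv.app (F.X j) :=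
      (θ.inv.naturality (F.d i j)).symm
    have h2 : G.map (Φ.map (P.d i j)) ≫ θ.hom.app (P.X j) =
        θ.hom.app (P.X i) ≫ Ext.map ((DerSch.stalkFunctor X x).map (P.d i j)) :=
      θ.hom.naturality (P.d i j)
    have h3 : Ext.map (ψ.f i) ≫ Ext.map ((DerSch.stalkFunctor X x).map (F.d i j)) =
        Ext.map ((DerSch.stalkFunctor X x).map (P.d i j)) ≫ Ext.map (ψ.f j) := by
      rw [← Functor.map_comp, ← Functor.map_comp]
      exact congrArg _ (ψ.comm i j)
    rw [Category.assoc, Category.assoc, h1, reassoc_of% h3, reassoc_of% h2]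
  have hnear : ∀ i, ∃ W' : (W : Scheme.{u}).Opens, w ∈ W' ∧
      (PerfLib.res W'.ι).map (k i ≫ Φ.map (F.d i (i + 1))) =
        (PerfLib.res W'.ι).map (Φ.map (P.d i (i + 1)) ≫ k (i + 1)) := fun i => by
    obtain ⟨n, ⟨eP⟩⟩ := PerfLib.isFinFree_res W.ι ⟨q i, hq i⟩
    obtain ⟨W', hw, h'⟩ := exists_eq_near w (eP.inv ≫ k i ≫ Φ.map (F.d i (i + 1)))
      (eP.inv ≫ Φ.map (P.d i (i + 1)) ≫ k (i + 1))
      (by rw [Functor.map_comp _ eP.inv, Functor.map_comp _ eP.inv, hcomm i (i + 1)])
    refine ⟨W', hw, ?_⟩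
    let p := Scheme.Modules.restrictFunctorIsoPullback W'.ι
    have h'' : ∀ {M N : (W : Scheme.{u}).Modules} (f g : M ⟶ N),
        (Scheme.Modules.pullback W'.ι).map f = (Scheme.Modules.pullback W'.ι).map g →
          (PerfLib.res W'.ι).map f = (PerfLib.res W'.ι).map g := fun f g e' => by
      rw [← cancel_mono (p.hom.app _)]
      exact (p.hom.naturality f).trans ((congrArg (p.hom.app _ ≫ ·) e').trans (p.hom.naturality g).symm)
    have := h'' _ _ h'
    rw [Functor.map_comp _ eP.inv, Functor.map_comp _ eP.inv] at this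
    exact (cancel_epi _).mp this
  choose W' hwW' hW' using hnear
  let W₂ : (W : Scheme.{u}).Opens := (Finset.Icc a b).inf W'
  have hwW₂ : w ∈ W₂ := Finset.inf_induction (p := fun V : (W : Scheme.{u}).Opens => w ∈ V) trivial
    (fun _ h₁ _ h₂ => ⟨h₁, h₂⟩) fun i _ => hwW' i
  let Ψ := PerfLib.res W₂.ι
  let c := Scheme.Modules.restrictFunctorComp W₂.ι W.ι
  let φ : (PerfLib.resC (W₂.ι ≫ W.ι)).obj P ⟶ (PerfLib.resC (W₂.ι ≫ W.ι)).obj F :=
    { f := fun i => c.hom.app (P.X i) ≫ Ψ.map (k i) ≫ c.inv.app (F.X i)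
      comm' := fun i j hij => by
        obtain rfl : i + 1 = j := hij
        by_cases hi : i ∈ Finset.Icc a b
        · have hle : W₂ ≤ W' i := Finset.inf_le hi
          have he : Ψ.map (k i ≫ Φ.map (F.d i (i + 1))) = Ψ.map (Φ.map (P.d i (i + 1)) ≫ k (i + 1)) := by
            let t := Scheme.Modules.restrictFunctorCongr ((W : Scheme.{u}).homOfLE_ι hle).symm ≪≫
              Scheme.Modules.restrictFunctorComp ((W : Scheme.{u}).homOfLE hle) (W' i).ι
            rw [← cancel_mono (t.hom.app _)]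
            refine (t.hom.naturality _).trans (Eq.trans ?_ (t.hom.naturality _).symm)
            exact congrArg (fun m => t.hom.app _ ≫ (PerfLib.res ((W : Scheme.{u}).homOfLE hle)).map m)
              (hW' i)
          change (c.hom.app (P.X i) ≫ Ψ.map (k i) ≫ c.inv.app (F.X i)) ≫
              (PerfLib.res (W₂.ι ≫ W.ι)).map (F.d i (i + 1)) =
            (PerfLib.res (W₂.ι ≫ W.ι)).map (P.d i (i + 1)) ≫
              c.hom.app (P.X (i + 1)) ≫ Ψ.map (k (i + 1)) ≫ c.inv.app (F.X (i + 1))
          rw [Category.assoc, Category.assoc, ← c.inv.naturality, c.hom.naturality_assoc]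
          simp only [Functor.comp_map]
          rw [← Ψ.map_comp_assoc, ← Ψ.map_comp_assoc]
          exact congrArg (fun m => c.hom.app _ ≫ m ≫ c.inv.app _) he
        · exact ((PerfLib.res (W₂.ι ≫ W.ι)).map_isZero
            (hv i (by simp only [Finset.mem_Icc] at hi; omega))).eq_of_src _ _ }
  refine ⟨W₂, W₂.ι ≫ W.ι, inferInstance, ⟨w, hwW₂⟩, rfl, φ, fun i hi => ?_⟩
  let v : (W₂ : Scheme.{u}) := ⟨w, hwW₂⟩
  let Ext₂ := ModuleCat.extendScalars.{u, u, u} (W₂.ι.stalkMap v).hom
  haveI : Ext₂.IsEquivalence := isEquivalence_extend_stalk W₂.ι v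
  let σ : PerfLib.res (W₂.ι ≫ W.ι) ⋙ DerSch.stalkFunctor _ v ≅
      (DerSch.stalkFunctor X x ⋙ Ext) ⋙ Ext₂ :=
    Functor.isoWhiskerRight c _ ≪≫ Functor.associator _ _ _ ≪≫
      Functor.isoWhiskerLeft _ (stalkResExt W₂.ι v) ≪≫ (Functor.associator _ _ _).symm ≪≫
      Functor.isoWhiskerRight θ Ext₂
  let σC := NatIso.mapHomologicalComplex σ (ComplexShape.up ℤ)
  let ψ' := (Ext₂.mapHomologicalComplex (ComplexShape.up ℤ)).map
    ((Ext.mapHomologicalComplex (ComplexShape.up ℤ)).map ψ)
  have hψ : ((DerSch.stalkFunctor _ v).mapHomologicalComplex (ComplexShape.up ℤ)).map φ =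
      σC.hom.app P ≫ ψ' ≫ σC.inv.app F := by
    refine HomologicalComplex.hom_ext _ _ fun n => ?_
    change (DerSch.stalkFunctor _ v).map (c.hom.app (P.X n) ≫ Ψ.map (k n) ≫ c.inv.app (F.X n)) =
      σ.hom.app (P.X n) ≫ Ext₂.map (Ext.map (ψ.f n)) ≫ σ.inv.app (F.X n)
    have h1 := (stalkResExt W₂.ι v).hom.naturality (k n)
    simp only [σ, Iso.trans_hom, Iso.trans_inv, NatTrans.comp_app, Functor.isoWhiskerRight_hom,
      Functor.isoWhiskerRight_inv, Functor.isoWhiskerLeft_hom, Functor.isoWhiskerLeft_inv,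
      Iso.symm_hom, Iso.symm_inv, Functor.whiskerRight_app, Functor.whiskerLeft_app,
      Functor.associator_hom_app, Functor.associator_inv_app, Category.id_comp, Category.assoc]
    rw [Functor.map_comp, Functor.map_comp]
    refine congrArg ((DerSch.stalkFunctor _ v).map (c.hom.app (P.X n)) ≫ ·) ?_
    rw [← Ext₂.map_comp_assoc, ← Ext₂.map_comp_assoc]
    simp only [Category.assoc]
    rw [← hk n]
    erw [← reassoc_of% h1]
    rw [Iso.hom_inv_id_app_assoc]
  rw [hψ]
  have : QuasiIsoAt ψ' i :=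
    (quasiIsoAt_map_iff_of_preservesHomology _ Ext₂ i).mpr
      ((quasiIsoAt_map_iff_of_preservesHomology ψ Ext i).mpr hi)
  have : QuasiIsoAt (σC.hom.app P ≫ ψ' ≫ σC.inv.app F) i := inferInstance
  exact this

/-- An object with bounded below cohomology is a truncation of any approximation. -/
theorem nonempty_iso_truncGE {K : DCoh.D X} (c : ℤ) [K.IsGE c] {E : CochainComplex X.Modules ℤ}
    (α : DCoh.toD X E ⟶ K)
    (hα : ∀ i, c ≤ i → IsIso ((DerivedCategory.homologyFunctor X.Modules i).map α)) :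
    Nonempty (DCoh.toD X (E.truncGE c) ≅ K) := by
  obtain ⟨F, hF, ⟨eF⟩⟩ := DerivedCategory.exists_iso_Q_obj_of_isGE K c
  obtain ⟨F', _, g, s, hs, hfac⟩ := DerivedCategory.left_fac_of_isStrictlyGE (α ≫ eF.hom) c
  have hg : ∀ i, c ≤ i → QuasiIsoAt g i := fun i hi => by
    rw [quasiIsoAt_iff_isIso_homologyMap]
    have h1 := hα i hi
    have h2 : IsIso ((DerivedCategory.homologyFunctor _ i).map (α ≫ eF.hom)) := by
      rw [Functor.map_comp]
      infer_instance
    rw [hfac, Functor.map_comp] at h2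
    have : IsIso ((DerivedCategory.homologyFunctor _ i).map (DerivedCategory.Q.map g)) :=
      IsIso.of_isIso_comp_right _
        ((DerivedCategory.homologyFunctor _ i).map (inv (DerivedCategory.Q.map s)))
    exact (NatIso.isIso_map_iff (DerivedCategory.homologyFunctorFactors _ i) g).mp this
  have : QuasiIso (CochainComplex.truncGEMap g c) :=
    (CochainComplex.quasiIso_truncGEMap_iff g c).mpr hg
  have : IsIso (DerivedCategory.Q.map (CochainComplex.truncGEMap g c)) :=
    (DerivedCategory.isIso_Q_map_iff_quasiIso (φ := CochainComplex.truncGEMap g c)).mpr inferInstance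
  exact ⟨asIso (DerivedCategory.Q.map (CochainComplex.truncGEMap g c)) ≪≫
    DerivedCategory.Q.mapIso (asIso (F'.πTruncGE c)).symm ≪≫
    (asIso (DerivedCategory.Q.map s)).symm ≪≫ eF.symm⟩

end Groth.Agent.RelFlatLib
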