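import Groth.Agent.RelFlatLib.Push
import Groth.Agent.LocSuppLib.LocFree
import Groth.Agent.CIGenLib.SmoothPts
import Groth.Agent.S1535
import Groth.Agent.S9501
import Groth.Agent.S6977
import Groth.Agent.S6948

/-!
# Tor amplitude over a smooth base
-/

set_option autoImplicit false
set_option linter.style.haveILetI false
set_option backward.isDefEq.respectTransparency false
set_option backward.isDefEq.respectTransparency.types false

universe u

open CategoryTheory CategoryTheory.Limits AlgebraicGeometry HomologicalComplex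

attribute [local instance] HasDerivedCategory.standard

namespace Groth.Agent.RelFlatLib

open Groth.Agent.PerfLib (resD resDQIso IAE)

variable {Y S : Scheme.{u}}

/-- The stalk of a pseudo-coherent object is pseudo-coherent over the local ring. -/
theorem stalk_pc {K : DCoh.D Y} {m : ℤ} (h : DCoh.IsPseudoCoherentD m K) (y : Y) :
    DRing.IsPseudoCoherent (Y.presheaf.stalk ((𝟙 Y : Y ⟶ Y).base y)) m
      ((DerSch.stalkOver (𝟙 Y) y).mapDerivedCategory.obj K) := by
  obtain ⟨V, j, hj, v, rfl, E, α, ⟨⟨a, b, hE⟩, hfl⟩, hα⟩ := (PerfLib.isPC_iff m K).1 h y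
  let G := DerSch.stalkOver (j ≫ 𝟙 Y) v
  obtain ⟨F, ⟨e⟩⟩ : ∃ F : CochainComplex Y.Modules ℤ, Nonempty (DCoh.toD Y F ≅ K) :=
    ⟨_, ⟨DerivedCategory.Q.objObjPreimageIso K⟩⟩
  let c : G.mapDerivedCategory.obj ((resD j).obj K) ≅
      (DerSch.stalkOver (𝟙 Y) (j v)).mapDerivedCategory.obj K :=
    G.mapDerivedCategory.mapIso ((resD j).mapIso e.symm ≪≫ resDQIso j F) ≪≫
      G.mapDerivedCategoryFactors.app _ ≪≫
      DerivedCategory.Q.mapIso
        ((NatIso.mapHomologicalComplex (stalkOverRestrict (𝟙 Y) j v) (ComplexShape.up ℤ)).app F) ≪≫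
      ((DerSch.stalkOver (𝟙 Y) (j v)).mapDerivedCategoryFactors.app F).symm ≪≫
      (DerSch.stalkOver (𝟙 Y) (j v)).mapDerivedCategory.mapIso e
  refine ⟨(G.mapHomologicalComplex (ComplexShape.up ℤ)).obj E, a, b,
    (G.mapDerivedCategoryFactors.app E).inv ≫ G.mapDerivedCategory.map α ≫ c.hom,
    fun i hi => G.map_isZero (hE i hi), fun i => ?_, ?_⟩
  · let φ := ((j ≫ 𝟙 Y).stalkMap v).hom
    have hφ : Function.Bijective φ := ConcreteCategory.bijective_of_isIso ((j ≫ 𝟙 Y).stalkMap v)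
    obtain ⟨n, ⟨l⟩⟩ := LocSuppLib.nonempty_stalk_pi (hfl i) v
    letI := φ.toAlgebra
    let l' : G.obj (E.X i) ≃ₗ[Y.presheaf.stalk ((j ≫ 𝟙 Y).base v)] (Fin n → V.presheaf.stalk v) :=
      { l.toAddEquiv with map_smul' := fun r x => l.map_smul (φ r) x }
    let ψ : Y.presheaf.stalk ((j ≫ 𝟙 Y).base v) ≃ₗ[Y.presheaf.stalk ((j ≫ 𝟙 Y).base v)] V.presheaf.stalk v :=
      LinearEquiv.ofBijective (Algebra.linearMap _ _) hφ
    let L := (LinearEquiv.piCongrRight fun _ => ψ).trans l'.symm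
    exact show Module.Finite (Y.presheaf.stalk ((j ≫ 𝟙 Y).base v)) (G.obj (E.X i)) ∧
        Module.Free (Y.presheaf.stalk ((j ≫ 𝟙 Y).base v)) (G.obj (E.X i)) from
      ⟨Module.Finite.equiv L, Module.Free.of_equiv L⟩
  · exact (IAE.of_isIso _ m).comp ((IAE.map G hα).comp (IAE.of_isIso _ m))

theorem ringKrullDim_stalk_le_of_specializes {y z : Y} (h : y ⤳ z) :
    ringKrullDim (Y.presheaf.stalk y) ≤ ringKrullDim (Y.presheaf.stalk z) := by
  rw [← PrimeSpectrum.topologicalKrullDim_eq_ringKrullDim, ← PrimeSpectrum.topologicalKrullDim_eq_ringKrullDim]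
  let φ := Spec.map (Y.presheaf.stalkSpecializes h)
  have hind : Topology.IsInducing φ.base := by
    refine Topology.IsInducing.of_comp φ.continuous (Y.fromSpecStalk z).continuous ?_
    have h1 : φ ≫ Y.fromSpecStalk z = Y.fromSpecStalk y := Scheme.SpecMap_stalkSpecializes_fromSpecStalk h
    have h2 := (Y.fromSpecStalk y).isEmbedding.isInducing
    rw [← h1] at h2
    exact h2
  exact hind.topologicalKrullDim_le

/-- The fibre rings of a smooth morphism of relative dimension `n`. -/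
theorem fibre_regular (g : Y ⟶ S) [Smooth g] (n : ℕ) [SmoothOfRelativeDimension n g] (y : Y) :
    letI := (g.stalkMap y).hom.toAlgebra
    IsRegularLocalRing (Y.presheaf.stalk y ⧸
        (IsLocalRing.maximalIdeal (S.presheaf.stalk (g.base y))).map (algebraMap _ (Y.presheaf.stalk y))) ∧
      ringKrullDim (Y.presheaf.stalk y ⧸
        (IsLocalRing.maximalIdeal (S.presheaf.stalk (g.base y))).map (algebraMap _ (Y.presheaf.stalk y))) ≤ n := by
  obtain ⟨s₀, w₀, rfl⟩ : ∃ (s : S) (w : ↥(g.fiber s)), g.fiberι s w = y :=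
    ⟨g y, g.asFiber y, g.fiberι_asFiber y⟩
  have key : ∀ (s : S) (w : ↥(g.fiber s)),
      letI := (g.stalkMap (g.fiberι s w)).hom.toAlgebra
      IsRegularLocalRing (Y.presheaf.stalk (g.fiberι s w) ⧸
          (IsLocalRing.maximalIdeal (S.presheaf.stalk (g.base (g.fiberι s w)))).map
            (algebraMap _ (Y.presheaf.stalk (g.fiberι s w)))) ∧
        ringKrullDim (Y.presheaf.stalk (g.fiberι s w) ⧸
          (IsLocalRing.maximalIdeal (S.presheaf.stalk (g.base (g.fiberι s w)))).map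
            (algebraMap _ (Y.presheaf.stalk (g.fiberι s w)))) ≤ n := by
    intro s w
    letI := (g.stalkMap (g.fiberι s w)).hom.toAlgebra
    let F := g.fiber s
    letI : F.Over (Spec (CommRingCat.of (S.residueField s))) := ⟨g.fiberToSpecResidueField s⟩
    haveI : Smooth (F ↘ Spec (CommRingCat.of (S.residueField s))) :=
      MorphismProperty.pullback_snd (P := @Smooth) _ _ ‹Smooth g›
    haveI : Smooth (g.fiberToSpecResidueField s) :=
      MorphismProperty.pullback_snd (P := @Smooth) _ _ ‹Smooth g›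
    haveI := smoothOfRelativeDimension_isStableUnderBaseChange n
    haveI : SmoothOfRelativeDimension n (g.fiberToSpecResidueField s) :=
      MorphismProperty.pullback_snd (P := @SmoothOfRelativeDimension n) _ _ ‹_›
    haveI : JacobsonSpace ↥F := LocallyOfFiniteType.jacobsonSpace (g.fiberToSpecResidueField s)
    have hF : IsRegularLocalRing (F.presheaf.stalk w) := Groth.Agent.S1535.result (S.residueField s) F w
    obtain ⟨hsurj, hker⟩ := Groth.Agent.S9501.result g s w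
    let e := (Ideal.quotEquivOfEq hker.symm).trans (RingHom.quotientKerEquivOfSurjective hsurj)
    refine ⟨IsRegularLocalRing.of_ringEquiv e.symm, (ringKrullDim_eq_of_ringEquiv e).trans_le ?_⟩
    obtain ⟨z, hz, hzc⟩ := nonempty_inter_closedPoints (Z := closure ({w} : Set ↥F))
      ⟨w, subset_closure rfl⟩ isClosed_closure.isLocallyClosed
    exact (ringKrullDim_stalk_le_of_specializes (specializes_iff_mem_closure.2 hz)).trans_eq
      (CIGen.closedPt_of_smooth (g.fiberToSpecResidueField s) n z hzc).2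
  exact key s₀ w₀

/-- Tor amplitude over the base bounds tor amplitude over a smooth scheme, for pseudo-coherent objects. -/
theorem ampD_id_of_smooth (g : Y ⟶ S) [Smooth g] (n : ℕ) [SmoothOfRelativeDimension n g] (y : Y)
    {K : DCoh.D Y} (hpc : ∀ m : ℤ, DCoh.IsPseudoCoherentD m K) {a b : ℤ} (h : AmpD g a b K y) :
    AmpD (𝟙 Y) (a - n) b K y := by
  obtain ⟨F, ⟨e⟩⟩ : ∃ F : CochainComplex Y.Modules ℤ, Nonempty (DCoh.toD Y F ≅ K) :=
    ⟨_, ⟨DerivedCategory.Q.objObjPreimageIso K⟩⟩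
  let A : Type u := S.presheaf.stalk (g.base y)
  let B : Type u := Y.presheaf.stalk ((𝟙 Y : Y ⟶ Y).base y)
  let ψ : A →+* B := (g.stalkMap y).hom
  letI : Algebra A B := ψ.toAlgebra
  haveI : IsLocalHom (algebraMap A B) := inferInstanceAs (IsLocalHom (g.stalkMap y).hom)
  haveI : Module.Flat A B := Flat.stalkMap g y
  obtain ⟨hreg, hdim⟩ := fibre_regular g n y
  haveI : IsRegularLocalRing (B ⧸ (IsLocalRing.maximalIdeal A).map (algebraMap A B)) := hreg
  obtain ⟨d, hd, hdn⟩ : ∃ d : ℕ, ringKrullDim (B ⧸ (IsLocalRing.maximalIdeal A).map (algebraMap A B)) = d ∧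
      d ≤ n := by
    let R := B ⧸ (IsLocalRing.maximalIdeal A).map (algebraMap A B)
    have h0 : (0 : WithBot ℕ∞) ≤ ringKrullDim R := ringKrullDim_nonneg_of_nontrivial
    obtain ⟨c, hc⟩ := WithBot.ne_bot_iff_exists.1
      (fun hb : ringKrullDim R = ⊥ => by rw [hb] at h0; simp at h0)
    have hc' : c ≤ (n : ℕ∞) := WithBot.coe_le_coe.1 (hc.le.trans hdim)
    obtain ⟨d, rfl⟩ := ENat.ne_top_iff_exists.1 (fun ht : c = ⊤ => by rw [ht] at hc'; simp at hc')
    exact ⟨d, hc.symm, by exact_mod_cast hc'⟩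
  let M := (DerSch.stalkOver (𝟙 Y) y).mapDerivedCategory.obj K
  have hM : DRing.IsPseudoCoherent' B M :=
    DRingLib.isPseudoCoherent'_iff_forall.2 fun m => stalk_pc (hpc m) y
  let i : DerSch.stalkOver g y ≅ DerSch.stalkOver (𝟙 Y) y ⋙ ModuleCat.restrictScalars.{u} ψ :=
    Functor.isoWhiskerLeft _ (ModuleCat.restrictScalarsComp' ψ ((𝟙 Y : Y ⟶ Y).stalkMap y).hom
      (g.stalkMap y).hom (by rw [Scheme.Hom.stalkMap_id]; rfl)) ≪≫ (Functor.associator _ _ _).symm
  have hA : DRing.HasTorAmplitudeIn A a b ((DRing.restrictD (algebraMap A B)).obj M) :=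
    DRingLib.hasTorAmplitudeIn_of_iso
      (DerivedCategory.Q.mapIso ((NatIso.mapHomologicalComplex i (ComplexShape.up ℤ)).app F) ≪≫
        ((ModuleCat.restrictScalars.{u} ψ).mapDerivedCategoryFactors.app
          (((DerSch.stalkOver (𝟙 Y) y).mapHomologicalComplex (ComplexShape.up ℤ)).obj F)).symm ≪≫
        (DRing.restrictD ψ).mapIso (((DerSch.stalkOver (𝟙 Y) y).mapDerivedCategoryFactors.app F).symm ≪≫
          (DerSch.stalkOver (𝟙 Y) y).mapDerivedCategory.mapIso e))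
      ((ampD_rep g e y).1 h)
  haveI := DRingLib.hasLBaseChange (IsLocalRing.residue A)
  have hb' := Groth.Agent.S6948.result (IsLocalRing.residue A) _ a b hA
  have h' := (Groth.Agent.S6977.result d hd a b M hM fun i hi =>
    ModuleCat.subsingleton_of_isZero (DRingLib.isZero_Hn_of_hasTorAmplitudeIn hb' i hi)).2
  exact DRingLib.hasTorAmplitudeIn_mono (by omega) le_rfl h'

end Groth.Agent.RelFlatLib

namespace Groth.Agent.RelFlatLib

open Groth.Agent.PerfLib (resD resC resDQIso)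

variable {Y : Scheme.{u}}

theorem perfectAmp_of_pc_amp' {K : DCoh.D Y} {a b : ℤ}
    (hpc : DCoh.IsPseudoCoherentD (a - 1) K) (hamp : DCoh.HasFlatAmplitudeIn a b K) :
    KSix.HasPerfectAmplitudeIn a b K := by
  rcases le_or_gt a b with hab | hab
  · exact perfectAmp_of_pc_amp hab hpc hamp
  intro y
  obtain ⟨E, hE, -, ⟨e⟩⟩ := hamp
  refine ⟨⊤, trivial, fun F ⟨eF⟩ => ⟨(resC (⊤ : Y.Opens).ι).obj E,
    fun i hi => (Groth.Agent.PerfLib.res (⊤ : Y.Opens).ι).map_isZero (hE i hi), fun i => ?_,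
    ⟨(resDQIso _ F).symm ≪≫ (resD _).mapIso (eF ≪≫ e.symm) ≪≫ resDQIso _ E⟩⟩⟩
  exact KFlatLib.isFinLocFree_of_isFinFree (KFlatLib.isFinFree_of_isZero
    ((Groth.Agent.PerfLib.res (⊤ : Y.Opens).ι).map_isZero (hE i (by omega))))

theorem ampAt_push_zero {X S : Scheme.{u}} (i : X ⟶ Y) [IsClosedImmersion i] (g : Y ⟶ S)
    (F : CochainComplex X.Modules ℤ) {y : Y} (hy : y ∉ Set.range ⇑i) (a b : ℤ) :
    DerSch.HasTorAmplitudeAt g a b
      (((Scheme.Modules.pushforward i).mapHomologicalComplex (ComplexShape.up ℤ)).obj F) y := by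
  let P := (DerSch.stalkCxOver g y).obj
    (((Scheme.Modules.pushforward i).mapHomologicalComplex (ComplexShape.up ℤ)).obj F)
  have hsub : ∀ n, Subsingleton (P.X n : Type u) := fun n =>
    ProjClosedImmLib.subsingleton_stalk i (F.X n) hy
  exact ⟨P, fun n _ => haveI := hsub n; ModuleCat.isZero_of_subsingleton _,
    fun n => haveI := hsub n; inferInstance, ⟨Iso.refl _⟩⟩

/-- The perfect amplitude of a direct image into a smooth scheme. -/
theorem perfectAmp_push {X S : Scheme.{u}} (i : X ⟶ Y) [IsClosedImmersion i] (g : Y ⟶ S) [Smooth g]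
    {a b : ℤ} (F : CochainComplex X.Modules ℤ)
    (hpc : ∀ m : ℤ, DCoh.IsPseudoCoherentD m
      (DCoh.toD Y (((Scheme.Modules.pushforward i).mapHomologicalComplex (ComplexShape.up ℤ)).obj F)))
    (W : Y.Opens) (d : ℕ)
    (hd : ∀ y : Y, y ∈ W → ∃ (n : ℕ) (V : Y.Opens), n ≤ d ∧ y ∈ V ∧ SmoothOfRelativeDimension n (V.ι ≫ g))
    (hamp : ∀ x : X, i x ∈ W → DerSch.HasTorAmplitudeAt (i ≫ g) a b F x) :
    ∀ y : Y, y ∈ W → AmpD (𝟙 Y) (a - d) b
      (DCoh.toD Y (((Scheme.Modules.pushforward i).mapHomologicalComplex (ComplexShape.up ℤ)).obj F)) y := by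
  intro y hyW
  let P := ((Scheme.Modules.pushforward i).mapHomologicalComplex (ComplexShape.up ℤ)).obj F
  have hg : AmpD g a b (DCoh.toD Y P) y := (ampD_rep g (Iso.refl _) y).2 (by
    by_cases hy : y ∈ Set.range ⇑i
    · obtain ⟨x, rfl⟩ := hy
      exact (ampAt_push_iff i g x a b F).2 (hamp x hyW)
    · exact ampAt_push_zero i g F hy a b)
  obtain ⟨n, V, hn, hy, hV⟩ := hd y hyW
  haveI := hV
  have h1 := ampD_id_of_smooth (V.ι ≫ g) n ⟨y, hy⟩ (fun m => PerfLib.isPC_res (hpc m) V.ι)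
    ((ampD_res_iff V.ι g ⟨y, hy⟩ a b _).2 hg)
  exact ampD_mono _ (by omega) le_rfl ((ampD_id_res_iff V.ι ⟨y, hy⟩ (a - n) b _).1 h1)

end Groth.Agent.RelFlatLib

namespace Groth.Agent.RelFlatLib

variable {Y S : Scheme.{u}}

/-- A smooth morphism has a relative dimension near every point. -/
theorem exists_smoothRel (g : Y ⟶ S) [Smooth g] (y : Y) :
    ∃ (n : ℕ) (V : Y.Opens), y ∈ V ∧ SmoothOfRelativeDimension n (V.ι ≫ g) := by
  obtain ⟨U, hU, V, hV, hy, e, hs⟩ := Smooth.exists_isStandardSmooth g y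
  have h' := hs
  unfold RingHom.IsStandardSmooth at h'
  letI := (g.appLE U V e).hom.toAlgebra
  obtain ⟨ι, σ, hσ, hι, ⟨P⟩⟩ := h'.out
  haveI := hσ
  haveI := hι
  have h2 : (g.appLE U V e).hom.IsStandardSmoothOfRelativeDimension P.dimension :=
    Algebra.SubmersivePresentation.isStandardSmoothOfRelativeDimension P rfl
  refine ⟨P.dimension, V, hy, ?_⟩
  haveI : SmoothOfRelativeDimension P.dimension (Spec.map (g.appLE U V e)) := by
    rw [HasRingHomProperty.Spec_iff (P := @SmoothOfRelativeDimension P.dimension)]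
    exact RingHom.locally_of RingHom.isStandardSmoothOfRelativeDimension_respectsIso _ h2
  have h3 : SmoothOfRelativeDimension (0 + (P.dimension + 0))
      (hV.isoSpec.hom ≫ Spec.map (g.appLE U V e) ≫ hU.fromSpec) := inferInstance
  rw [IsAffineOpen.SpecMap_appLE_fromSpec g hU hV e, ← hV.isoSpec_inv_ι, Category.assoc,
    Iso.hom_inv_id_assoc] at h3
  simpa using h3

/-- Relative finite tor amplitude makes a direct image into a smooth scheme perfect. -/
theorem isPerfect_push {X : Scheme.{u}} (i : X ⟶ Y) [IsClosedImmersion i] (g : Y ⟶ S) [Smooth g]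
    (F : CochainComplex X.Modules ℤ)
    (hpc : ∀ m : ℤ, DCoh.IsPseudoCoherentD m
      (DCoh.toD Y (((Scheme.Modules.pushforward i).mapHomologicalComplex (ComplexShape.up ℤ)).obj F)))
    (hamp : DerSch.LocFiniteTorAmplitude (i ≫ g) F) :
    DCoh.IsPerfect
      (DCoh.toD Y (((Scheme.Modules.pushforward i).mapHomologicalComplex (ComplexShape.up ℤ)).obj F)) := by
  let K := DCoh.toD Y (((Scheme.Modules.pushforward i).mapHomologicalComplex (ComplexShape.up ℤ)).obj F)
  refine (PerfLib.isPerfect_iff K).2 fun y => ?_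
  obtain ⟨n, V, hyV, hV⟩ := exists_smoothRel g y
  obtain ⟨W₀, a, b, hyW₀, hW₀⟩ : ∃ (W₀ : Y.Opens) (a b : ℤ), y ∈ W₀ ∧
      ∀ x : X, i x ∈ W₀ → DerSch.HasTorAmplitudeAt (i ≫ g) a b F x := by
    by_cases hy : y ∈ Set.range ⇑i
    · obtain ⟨x, rfl⟩ := hy
      obtain ⟨U, a, b, hxU, hU⟩ := hamp x
      obtain ⟨O, hO, hOU⟩ := i.isClosedEmbedding.isInducing.isOpen_iff.1 U.2
      have hx' : x ∈ ⇑i ⁻¹' O := hOU.symm ▸ hxU
      refine ⟨⟨O, hO⟩, a, b, hx', fun x' hx'' => hU x' ?_⟩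
      have h4 : x' ∈ ⇑i ⁻¹' O := hx''
      rwa [hOU] at h4
    · exact ⟨⟨(Set.range ⇑i)ᶜ, i.isClosedEmbedding.isClosed_range.isOpen_compl⟩, 0, 0, hy,
        fun x hx => absurd ⟨x, rfl⟩ hx⟩
  let W := V ⊓ W₀
  have hA := perfectAmp_push i g F hpc W n (a := a) (b := b)
    (fun z hz => ⟨n, V, le_rfl, hz.1, hV⟩) (fun x hx => hW₀ x hx.2)
  have hKW : DCoh.HasFlatAmplitudeIn (a - n) b ((Groth.Agent.PerfLib.resD W.ι).obj K) :=
    (flatAmp_iff_ampD _ _ _).2 fun w => (ampD_id_res_iff W.ι w _ _ K).2 (hA _ w.2)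
  obtain ⟨Z, j, hj, z, hz, hm⟩ := (PerfLib.isPerfect_iff _).1
    (isPerfect_of_perfectAmp (perfectAmp_of_pc_amp' (PerfLib.isPC_res (hpc _) W.ι) hKW))
    (⟨y, hyV, hyW₀⟩ : (W : Scheme.{u}))
  obtain ⟨G, hG, ⟨e⟩⟩ := hm
  obtain ⟨c⟩ := PerfLib.nonempty_resD_comp j W.ι K
  exact ⟨Z, j ≫ W.ι, inferInstance, z, by rw [Scheme.Hom.comp_apply, hz]; rfl, G, hG, ⟨c ≪≫ e⟩⟩

/-- A perfect object has locally finite tor amplitude relative to a flat morphism. -/
theorem locAmp_of_isPerfect (g : Y ⟶ S) [Flat g] {F : CochainComplex Y.Modules ℤ}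
    (h : DCoh.IsPerfect (DCoh.toD Y F)) : DerSch.LocFiniteTorAmplitude g F := fun y => by
  obtain ⟨V, hy, hV⟩ := h y
  obtain ⟨E, ⟨⟨a, b, hE⟩, hfl⟩, ⟨e⟩⟩ := hV F ⟨Iso.refl _⟩
  refine ⟨V, a, b, hy, fun y' hy' => (ampAt_restrict_iff g V.ι ⟨y', hy'⟩ a b F).1 ?_⟩
  exact amp_of_flatAmp (V.ι ≫ g)
    ⟨E, hE, fun i => KFlatLib.isFlat_of_isFinLocFree (hfl i), ⟨e.symm⟩⟩ ⟨y', hy'⟩

end Groth.Agent.RelFlatLib
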