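import Groth.Agent.RelFlatLib.TorDim
import Groth.Agent.KFlatLib.PullKFlat
import Groth.Agent.KFlatLib.DerivedTensor
import Groth.Agent.TwoTermLib.RelAmp
import Groth.Agent.KFlatLib.TorAmpMore
import Groth.Agent.KFlatLib.LpullTensor
import Groth.Agent.DRingLib.TorBalance

/-!
# Stalks of derived pullbacks and tor amplitude over a base
-/

set_option autoImplicit false
set_option linter.style.haveILetI false
set_option backward.isDefEq.respectTransparency false
set_option backward.isDefEq.respectTransparency.types false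

universe u

open CategoryTheory CategoryTheory.Limits AlgebraicGeometry HomologicalComplex MonoidalCategory

attribute [local instance] HasDerivedCategory.standard

namespace Groth.Agent.RelFlatLib

open KFlatLib (tT tMap tensorN)
open TwoTermLib.RelAmp (resCx)

section Ring

variable {A B C : Type u} [CommRing A] [CommRing B] [CommRing C] (φ : A →+* B) (ψ : B →+* C)

/-- Base change along a map of tor dimension at most `m` of a K-flat complex with cohomology in
`[c, d]` has cohomology in `[c - m, d]`. -/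
theorem isZero_homology_extCx {m : ℕ}
    (hC : DRing.HasTorAmplitudeIn B (-(m : ℤ)) 0
      (DerivedCategory.Q.obj ((single (ModuleCat.{u} B) (ComplexShape.up ℤ) 0).obj
        ((ModuleCat.restrictScalars.{u} ψ).obj (𝟙_ (ModuleCat.{u} C))))))
    {M : CochainComplex (ModuleCat.{u} B) ℤ} (hM : DRing.IsKFlat B M) {c d : ℤ}
    (hH : ∀ j, (j < c ∨ d < j) → IsZero (M.homology j)) (i : ℤ) (hi : i < c - m ∨ d < i) :
    IsZero (((DRingLib.extCx ψ).obj M).homology i) := by
  rw [← TwoTermLib.RelAmp.isZero_homology_resCx_iff ψ]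
  let N := (ModuleCat.restrictScalars.{u} ψ).obj (𝟙_ (ModuleCat.{u} C))
  obtain ⟨e₁⟩ := DRingLib.nonempty_singleTensorIso N M
  let e₂ : ((tensorLeft N).mapHomologicalComplex (ComplexShape.up ℤ)).obj M ≅
      (resCx ψ).obj ((DRingLib.extCx ψ).obj M) :=
    Hom.isoOfComponents (fun n => (KFlatLib.tensorLeftExtIso ψ).app (M.X n))
      (fun i j _ => ((KFlatLib.tensorLeftExtIso ψ).hom.naturality (M.d i j)).symm)
  obtain ⟨E, hEv, hEf, ⟨eE⟩⟩ := hC
  have hE : DRing.IsKFlat B E := DRingLib.isKFlat_of_flatAmplitude hEv hEf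
  let H := HomologicalComplex.homologyFunctor (ModuleCat.{u} B) (ComplexShape.up ℤ) i
  refine IsZero.of_iso ?_ (H.mapIso (e₂.symm ≪≫ e₁.symm ≪≫
    (KFlatLib.tensorFlipIso ((single (ModuleCat.{u} B) (ComplexShape.up ℤ) 0).obj N) M).symm))
  refine (TwoTermLib.KFlatTrunc.isZero_tensor_iff_of_iso hM eE i).1 ?_
  refine IsZero.of_iso ?_ (H.mapIso (KFlatLib.tensorFlipIso E M))
  haveI : M.IsLE d := by
    rw [CochainComplex.isLE_iff]
    exact fun j hj => (HomologicalComplex.exactAt_iff_isZero_homology _ j).2 (hH j (Or.inr hj))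
  haveI : QuasiIso (M.ιTruncLE d) := (CochainComplex.quasiIso_ιTruncLE_iff M d).2 inferInstance
  let M₁ := M.truncLE d
  have hM₁ : ∀ j, j < c → IsZero (M₁.homology j) := fun j hj => by
    have : IsIso (HomologicalComplex.homologyMap (M.ιTruncLE d) j) :=
      (quasiIsoAt_iff_isIso_homologyMap _ _).mp (QuasiIso.quasiIsoAt j)
    exact (hH j (Or.inl hj)).of_iso (asIso (HomologicalComplex.homologyMap (M.ιTruncLE d) j))
  haveI : M₁.IsGE c := by
    rw [CochainComplex.isGE_iff]
    exact fun j hj => (HomologicalComplex.exactAt_iff_isZero_homology _ j).2 (hM₁ j hj)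
  haveI : QuasiIso (M₁.πTruncGE c) := (CochainComplex.quasiIso_πTruncGE_iff M₁ c).mpr inferInstance
  have q₁ := (KFlatLib.quasiIso_tMap_left hE (M.ιTruncLE d)).quasiIsoAt i
  have q₂ := (KFlatLib.quasiIso_tMap_left hE (M₁.πTruncGE c)).quasiIsoAt i
  rw [quasiIsoAt_iff_isIso_homologyMap] at q₁ q₂
  have hT := DRingLib.vanishesOutside_truncGE (P := M₁) (b := d)
    (fun j hj => CochainComplex.isZero_of_isStrictlyLE M₁ d j hj) c
  refine IsZero.of_iso ?_ ((@asIso _ _ _ _ _ q₁).symm ≪≫ @asIso _ _ _ _ _ q₂)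
  refine (HomologicalComplex.exactAt_iff_isZero_homology _ i).mp
    (ShortComplex.exact_of_isZero_X₂ _ (TwoTermLib.LTCx.isZero_tensor_X i fun p q hpq => ?_))
  by_cases hp : p < -(m : ℤ) ∨ 0 < p
  · exact Or.inl (hEv p hp)
  · exact Or.inr (hT q (by omega))

/-- Tor amplitude over the base of a base change along a map of finite tor dimension. -/
theorem amp_res_extCx {χ : A →+* C} (h : χ = ψ.comp φ) {m : ℕ}
    (hC : DRing.HasTorAmplitudeIn B (-(m : ℤ)) 0
      (DerivedCategory.Q.obj ((single (ModuleCat.{u} B) (ComplexShape.up ℤ) 0).obj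
        ((ModuleCat.restrictScalars.{u} ψ).obj (𝟙_ (ModuleCat.{u} C))))))
    {P : CochainComplex (ModuleCat.{u} B) ℤ} (hP : DRing.IsKFlat B P) {c d : ℤ}
    (hamp : DRing.HasTorAmplitudeIn A c d (DerivedCategory.Q.obj ((resCx φ).obj P))) :
    DRing.HasTorAmplitudeIn A (c - m) d
      (DerivedCategory.Q.obj ((resCx χ).obj ((DRingLib.extCx ψ).obj P))) :=
  (TwoTermLib.RelAmp.hasTorAmplitudeIn_res_iff χ _ _ _).2 fun i hi N => by
    let Q := (DRingLib.extCx φ).obj (projectiveResolution N).cochainComplex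
    have hQ : DRing.IsKFlat B Q :=
      KFlatLib.isKFlat_extend φ (DRingLib.isKFlat_projectiveResolution (projectiveResolution N))
    have hM : DRing.IsKFlat B (P ⊗ Q) := KFlatLib.isKFlat_tensor_ring hP hQ
    have hH : ∀ j, (j < c ∨ d < j) → IsZero ((P ⊗ Q).homology j) := fun j hj =>
      (TwoTermLib.RelAmp.hasTorAmplitudeIn_res_iff φ P c d).1 hamp j hj N
    have hz := isZero_homology_extCx ψ hC hM hH i hi
    exact IsZero.of_iso hz ((HomologicalComplex.homologyFunctor (ModuleCat.{u} C) (ComplexShape.up ℤ) i).mapIso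
      (TwoTermLib.RelAmp.baseChangeIso φ ψ h P (projectiveResolution N).cochainComplex))

end Ring

variable {X Y Z : Scheme.{u}} (f : X ⟶ Y)

/-- The stalks of the pullback of a complex, over the local ring of any base. -/
noncomputable def stalkOverPullIso (h : X ⟶ Z) (x : X) (P : CochainComplex Y.Modules ℤ) :
    (DerSch.stalkCxOver h x).obj ((KFlatLib.pullCx f).obj P) ≅
      (resCx (h.stalkMap x).hom).obj
        ((KFlatLib.extCx f x).obj ((KFlatLib.stalkCx Y (f x)).obj P)) :=
  HomologicalComplex.Hom.isoOfComponents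
    (fun n => (ModuleCat.restrictScalars.{u} (h.stalkMap x).hom).mapIso ((KFlatLib.stalkPullIso f x).app (P.X n)))
    fun i j _ => (((ModuleCat.restrictScalars.{u} (h.stalkMap x).hom).map_comp _ _).symm.trans
      ((congrArg _ ((KFlatLib.stalkPullIso f x).hom.naturality (P.d i j)).symm).trans
        ((ModuleCat.restrictScalars.{u} (h.stalkMap x).hom).map_comp _ _)))

/-- Tor amplitude of a derived pullback, from a K-flat representative. -/
theorem ampD_lpull_of_kflat [DCoh.HasLpull f] (h : X ⟶ Z) {K : DCoh.D Y} {P : CochainComplex Y.Modules ℤ}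
    (hP : DCoh.IsKFlat P) (e : DCoh.toD Y P ≅ K) {a b : ℤ}
    (H : ∀ x : X, DRing.HasTorAmplitudeIn (Z.presheaf.stalk (h.base x)) a b
      (DerivedCategory.Q.obj ((resCx (h.stalkMap x).hom).obj
        ((KFlatLib.extCx f x).obj ((KFlatLib.stalkCx Y (f x)).obj P))))) :
    DerSch.HasTorAmplitudeD h a b ((DCoh.Lpull f).obj K) := fun F ⟨eF⟩ x =>
  ampAt_of_iso h ((KFlatLib.lpullObjIso f P hP).symm ≪≫ (DCoh.Lpull f).mapIso e ≪≫ eF.symm)
    (DRingLib.hasTorAmplitudeIn_of_iso
      (DerivedCategory.Q.mapIso (stalkOverPullIso f h x P)).symm (H x))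

/-- The tor dimension of `f` at a point, in the form used for base change. -/
theorem amp_stalk_algebra (x : X) {m : ℕ} (hf : DerSch.HasTorDimLE f m) :
    DRing.HasTorAmplitudeIn (Y.presheaf.stalk (f.base x)) (-(m : ℤ)) 0
      (DerivedCategory.Q.obj ((single (ModuleCat.{u} (Y.presheaf.stalk (f.base x))) (ComplexShape.up ℤ) 0).obj
        ((ModuleCat.restrictScalars.{u} (f.stalkMap x).hom).obj (𝟙_ (ModuleCat.{u} (X.presheaf.stalk x)))))) := by
  letI := (f.stalkMap x).hom.toAlgebra
  let i : ModuleCat.of (Y.presheaf.stalk (f.base x)) (X.presheaf.stalk x) ≅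
      (ModuleCat.restrictScalars.{u} (f.stalkMap x).hom).obj (𝟙_ (ModuleCat.{u} (X.presheaf.stalk x))) :=
    LinearEquiv.toModuleIso
      ({ AddEquiv.refl (X.presheaf.stalk x) with map_smul' := fun _ _ => rfl } :
        (X.presheaf.stalk x : Type u) ≃ₗ[Y.presheaf.stalk (f.base x)]
          ((ModuleCat.restrictScalars.{u} (f.stalkMap x).hom).obj (𝟙_ (ModuleCat.{u} (X.presheaf.stalk x))) : Type u))
  exact DRingLib.hasTorAmplitudeIn_of_iso
    (DerivedCategory.Q.mapIso ((single _ (ComplexShape.up ℤ) 0).mapIso i))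
    ((unitAt_iff f x _ _).1 (hf x))

end Groth.Agent.RelFlatLib
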