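import Groth.Agent.RelFlatLib.SpreadIso

/-!
# Perfect complexes over a local ring spread out
-/

set_option autoImplicit false
set_option linter.style.haveILetI false
set_option backward.isDefEq.respectTransparency false
set_option backward.isDefEq.respectTransparency.types false

universe u

open CategoryTheory CategoryTheory.Limits AlgebraicGeometry HomologicalComplex
open TopologicalSpace (Opens)

attribute [local instance] HasDerivedCategory.standard

namespace Groth.Agent.RelFlatLib

open KFlatLib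

variable {X : Scheme.{u}}

/-- A finite family of maps between stalks out of finite free modules spreads out. -/
theorem exists_maps_nhd (x : X) (s : Finset ℤ) (M N : ℤ → X.Modules) (hM : ∀ i, IsFinFree (M i))
    (f : ∀ i, (DerSch.stalkFunctor X x).obj (M i) ⟶ (DerSch.stalkFunctor X x).obj (N i)) :
    ∃ (W : X.Opens) (hxW : x ∈ W)
      (k : ∀ i, (PerfLib.res W.ι).obj (M i) ⟶ (PerfLib.res W.ι).obj (N i)),
      ∀ i ∈ s, (DerSch.stalkFunctor (W : Scheme.{u}) ⟨x, hxW⟩).map (k i) =
        (stalkResExt W.ι ⟨x, hxW⟩).hom.app _ ≫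
          (ModuleCat.extendScalars.{u, u, u} (W.ι.stalkMap ⟨x, hxW⟩).hom).map (f i) ≫
          (stalkResExt W.ι ⟨x, hxW⟩).inv.app _ := by
  choose q hq using hM
  let e : ∀ i, M i ≅ FlatMod.freeMod X (q i) := fun i => (hq i).some
  choose U hU hlift using fun i =>
    exists_lift_le x ((DerSch.stalkFunctor X x).map (e i).inv ≫ f i)
  let W : X.Opens := s.inf U
  have hxW : x ∈ W := Finset.inf_induction (p := fun W : X.Opens => x ∈ W) trivial
    (fun _ h₁ _ h₂ => ⟨h₁, h₂⟩) fun i _ => hU i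
  let Φ := PerfLib.res W.ι
  let w : (W : Scheme.{u}) := ⟨x, hxW⟩
  let G := DerSch.stalkFunctor (W : Scheme.{u}) w
  let Ext := ModuleCat.extendScalars.{u, u, u} (W.ι.stalkMap w).hom
  let θ := stalkResExt W.ι w
  have hk : ∀ i, ∃ k : Φ.obj (M i) ⟶ Φ.obj (N i), i ∈ s →
      G.map k = θ.hom.app _ ≫ Ext.map (f i) ≫ θ.inv.app _ := fun i => by
    by_cases hi : i ∈ s
    · obtain ⟨h, hh⟩ := hlift i W (Finset.inf_le hi)
      have : IsIso (Φ.map (resFree W (q i))) :=
        (NatIso.isIso_map_iff (Scheme.Modules.restrictFunctorIsoPullback W.ι) _).mpr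
          (isIso_pullback_resFree W (q i))
      refine ⟨Φ.map (e i).hom ≫ inv (Φ.map (resFree W (q i))) ≫ Φ.map h, fun _ => ?_⟩
      have nat : ∀ {M N : X.Modules} (m : M ⟶ N), G.map (Φ.map m) =
          θ.hom.app M ≫ Ext.map ((DerSch.stalkFunctor X x).map m) ≫ θ.inv.app N := fun m => by
        have hn := θ.hom.naturality m
        rw [← Category.assoc]
        refine Eq.trans ?_ (congrArg (· ≫ θ.inv.app _) hn)
        exact ((Category.assoc _ _ _).trans ((congrArg (_ ≫ ·) (θ.hom_inv_id_app _)).trans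
          (Category.comp_id _))).symm
      have : IsIso (Φ.map ((resFree W (q i)) ≫ (e i).inv)) := by
        rw [Functor.map_comp]
        infer_instance
      rw [← cancel_epi (G.map (Φ.map ((resFree W (q i)) ≫ (e i).inv)))]
      have e1 : Φ.map (resFree W (q i) ≫ (e i).inv) ≫
          Φ.map (e i).hom ≫ inv (Φ.map (resFree W (q i))) ≫ Φ.map h = Φ.map h := by
        rw [Functor.map_comp, Category.assoc, ← Φ.map_comp_assoc (e i).inv, Iso.inv_hom_id,
          Φ.map_id, Category.id_comp, IsIso.hom_inv_id_assoc]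
      rw [← Functor.map_comp, e1, nat, nat]
      have e2 : (DerSch.stalkFunctor X x).map h =
          (DerSch.stalkFunctor X x).map (resFree W (q i) ≫ (e i).inv) ≫ f i :=
        hh.trans ((Category.assoc _ _ _).symm.trans
          (congrArg (· ≫ f i) ((DerSch.stalkFunctor X x).map_comp _ _).symm))
      refine (congrArg (fun t => θ.hom.app _ ≫ Ext.map t ≫ θ.inv.app _) e2).trans ?_
      rw [Functor.map_comp Ext, Category.assoc, Category.assoc, Category.assoc]
      exact congrArg (fun t => θ.hom.app _ ≫ Ext.map _ ≫ t) (θ.inv_hom_id_app_assoc (M i) _).symm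
    · exact ⟨0, fun h => absurd h hi⟩
  choose k hk using hk
  exact ⟨W, hxW, k, fun i hi => hk i hi⟩

/-- Finitely many maps out of finite free modules with vanishing stalks vanish near the point. -/
theorem exists_zero_nhd (x : X) (s : Finset ℤ) (M N : ℤ → X.Modules) (hM : ∀ i, IsFinFree (M i))
    (f : ∀ i, M i ⟶ N i) (hf : ∀ i ∈ s, (DerSch.stalkFunctor X x).map (f i) = 0) :
    ∃ W : X.Opens, x ∈ W ∧ ∀ i ∈ s, (PerfLib.res W.ι).map (f i) = 0 := by
  have hn : ∀ i, ∃ W' : X.Opens, x ∈ W' ∧ (i ∈ s → (PerfLib.res W'.ι).map (f i) = 0) := fun i => by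
    by_cases hi : i ∈ s
    · obtain ⟨n, ⟨eP⟩⟩ := hM i
      obtain ⟨W', hw, h'⟩ := exists_eq_near x (eP.inv ≫ f i) 0
        (by rw [Functor.map_comp, hf i hi, comp_zero, Functor.map_zero])
      refine ⟨W', hw, fun _ => ?_⟩
      let p := Scheme.Modules.restrictFunctorIsoPullback W'.ι
      have h₁ : (PerfLib.res W'.ι).map (eP.inv ≫ f i) = 0 := by
        rw [← cancel_mono (p.hom.app _), zero_comp]
        refine (p.hom.naturality _).trans ?_
        rw [h', Functor.map_zero, comp_zero]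
      rw [Functor.map_comp] at h₁
      exact (cancel_epi _).mp (h₁.trans comp_zero.symm)
    · exact ⟨⊤, trivial, fun h => absurd h hi⟩
  choose W' hW' hz using hn
  refine ⟨s.inf W', Finset.inf_induction (p := fun V : X.Opens => x ∈ V) trivial
    (fun _ h₁ _ h₂ => ⟨h₁, h₂⟩) fun i _ => hW' i, fun i hi => ?_⟩
  have hle : s.inf W' ≤ W' i := Finset.inf_le hi
  let t := Scheme.Modules.restrictFunctorCongr (X.homOfLE_ι hle).symm ≪≫
    Scheme.Modules.restrictFunctorComp (X.homOfLE hle) (W' i).ι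
  rw [← cancel_mono (t.hom.app _), zero_comp]
  refine (t.hom.naturality _).trans ?_
  rw [Functor.comp_map, hz i hi, Functor.map_zero, comp_zero]

/-- The restriction of a direct image along an open immersion. -/
noncomputable def resPushIso {U : Scheme.{u}} (j : U ⟶ X) [IsOpenImmersion j] :
    Scheme.Modules.pushforward j ⋙ PerfLib.res j ≅ 𝟭 U.Modules :=
  asIso (Scheme.Modules.restrictAdjunction j).counit

/-- A faithful full functor reflects isomorphisms of complexes. -/
theorem nonempty_iso_of_mapIso {C D : Type*} [Category C] [Category D] [Preadditive C] [Preadditive D]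
    (G : C ⥤ D) [G.Full] [G.Faithful] [G.Additive] {K L : CochainComplex C ℤ}
    (e : (G.mapHomologicalComplex (ComplexShape.up ℤ)).obj K ≅
      (G.mapHomologicalComplex (ComplexShape.up ℤ)).obj L) : Nonempty (K ≅ L) :=
  ⟨HomologicalComplex.Hom.isoOfComponents
    (fun i => G.preimageIso ((HomologicalComplex.eval D (ComplexShape.up ℤ) i).mapIso e))
    fun i j _ => G.map_injective (by
      simp only [Functor.map_comp, Functor.preimageIso_hom, Functor.map_preimage]
      exact e.hom.comm i j)⟩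

/-- The stalk of a direct image along an open immersion, from the stalk upstairs. -/
theorem nonempty_stalk_push_iso {V : Scheme.{u}} (j : V ⟶ X) [IsOpenImmersion j] (v : V)
    (E : CochainComplex V.Modules ℤ) (T : CochainComplex (ModuleCat.{u} (X.presheaf.stalk (j v))) ℤ)
    (e : ((DerSch.stalkFunctor V v).mapHomologicalComplex (ComplexShape.up ℤ)).obj E ≅
      ((ModuleCat.extendScalars.{u, u, u} (j.stalkMap v).hom).mapHomologicalComplex (ComplexShape.up ℤ)).obj T) :
    Nonempty (((DerSch.stalkFunctor X (j v)).mapHomologicalComplex (ComplexShape.up ℤ)).obj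
      (((Scheme.Modules.pushforward j).mapHomologicalComplex (ComplexShape.up ℤ)).obj E) ≅ T) := by
  haveI := isEquivalence_extend_stalk j v
  let F := ((Scheme.Modules.pushforward j).mapHomologicalComplex (ComplexShape.up ℤ)).obj E
  let r : (PerfLib.resC j).obj F ≅ E :=
    (NatIso.mapHomologicalComplex (resPushIso j) (ComplexShape.up ℤ)).app E ≪≫
      (Functor.mapHomologicalComplexIdIso _ _).app E
  let Ext := ModuleCat.extendScalars.{u, u, u} (j.stalkMap v).hom
  let σ := (stalkResExt j v).symm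
  let e' : (Ext.mapHomologicalComplex (ComplexShape.up ℤ)).obj
      (((DerSch.stalkFunctor X (j v)).mapHomologicalComplex (ComplexShape.up ℤ)).obj F) ≅
      ((DerSch.stalkFunctor V v).mapHomologicalComplex (ComplexShape.up ℤ)).obj ((PerfLib.resC j).obj F) :=
    HomologicalComplex.Hom.isoOfComponents (fun i => σ.app (F.X i))
      fun i k _ => (σ.hom.naturality (F.d i k)).symm
  exact nonempty_iso_of_mapIso Ext
    (e' ≪≫ ((DerSch.stalkFunctor V v).mapHomologicalComplex (ComplexShape.up ℤ)).mapIso r ≪≫ e)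

set_option maxHeartbeats 800000 in
/-- A perfect complex over the local ring at a point extends to a complex perfect near the point. -/
theorem exists_spread (x : X) (T : CochainComplex (ModuleCat.{u} (X.presheaf.stalk x)) ℤ) (a b : ℤ)
    (hT : DRing.VanishesOutside T a b) (hfp : DRing.TermwiseFiniteProjective T) :
    ∃ (U : X.Opens) (F : CochainComplex X.Modules ℤ), x ∈ U ∧
      DCoh.IsPerfect (DerivedCategory.Q.obj ((DCoh.restrictCx U).obj F)) ∧
      Nonempty (((DerSch.stalkFunctor X x).mapHomologicalComplex (ComplexShape.up ℤ)).obj F ≅ T) := by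
  let S := DerSch.stalkFunctor X x
  have hq : ∀ i, ∃ q : ℕ, Nonempty (S.obj (FlatMod.freeMod X q) ≅ T.X i) ∧ (IsZero (T.X i) → q = 0) :=
    fun i => by
      haveI : Module.Finite (X.presheaf.stalk x) (T.X i) := (hfp i).1
      haveI : Module.Projective (X.presheaf.stalk x) (T.X i) := (hfp i).2
      haveI : Module.Free (X.presheaf.stalk x) (T.X i) := Module.free_of_flat_of_isLocalRing
      let n := Fintype.card (Module.Free.ChooseBasisIndex (X.presheaf.stalk x) (T.X i))
      refine ⟨n, ⟨stalkFreeModIso X x n ≪≫ (((Module.Free.chooseBasis (X.presheaf.stalk x) (T.X i)).reindex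
        (Fintype.equivFin _)).equivFun.symm.toModuleIso)⟩, fun h => ?_⟩
      haveI := ModuleCat.subsingleton_of_isZero h
      exact Fintype.card_eq_zero_iff.2 ⟨fun j => (Module.Free.chooseBasis (X.presheaf.stalk x) (T.X i)).ne_zero j
        (Subsingleton.elim _ _)⟩
  choose q hq₁ hq₀ using hq
  let e : ∀ i, S.obj (FlatMod.freeMod X (q i)) ≅ T.X i := fun i => (hq₁ i).some
  have hzero : ∀ i, i < a ∨ b < i → IsZero (FlatMod.freeMod X (q i)) := fun i hi => by
    rw [hq₀ i (hT i hi)]
    exact (IsZero.iff_id_eq_zero _).2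
      (Sigma.hom_ext _ _ fun j => j.elim0)
  let s := Finset.Icc a b
  obtain ⟨W, hxW, k, hk⟩ := exists_maps_nhd x s (fun i => FlatMod.freeMod X (q i))
    (fun i => FlatMod.freeMod X (q (i + 1))) (fun i => ⟨q i, ⟨Iso.refl _⟩⟩)
    (fun i => (e i).hom ≫ T.d i (i + 1) ≫ (e (i + 1)).inv)
  let Φ := PerfLib.res W.ι
  let w : (W : Scheme.{u}) := ⟨x, hxW⟩
  let G := DerSch.stalkFunctor (W : Scheme.{u}) w
  let Ext := ModuleCat.extendScalars.{u, u, u} (W.ι.stalkMap w).hom
  haveI : Ext.IsEquivalence := isEquivalence_extend_stalk W.ι w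
  let θ := stalkResExt W.ι w
  have hk' : ∀ i, G.map (k i) = θ.hom.app (FlatMod.freeMod X (q i)) ≫
      Ext.map ((e i).hom ≫ T.d i (i + 1) ≫ (e (i + 1)).inv) ≫
      θ.inv.app (FlatMod.freeMod X (q (i + 1))) := fun i => by
    by_cases hi : i ∈ s
    · exact hk i hi
    · exact (G.map_isZero (Φ.map_isZero (hzero i (by simp only [s, Finset.mem_Icc] at hi; omega)))).eq_of_src _ _
  have hdd : ∀ i, G.map (k i ≫ k (i + 1)) = 0 := fun i => by
    rw [Functor.map_comp, hk', hk', Category.assoc, Category.assoc, Iso.inv_hom_id_app_assoc,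
      ← Functor.map_comp_assoc]
    have : ((e i).hom ≫ T.d i (i + 1) ≫ (e (i + 1)).inv) ≫
        (e (i + 1)).hom ≫ T.d (i + 1) (i + 1 + 1) ≫ (e (i + 1 + 1)).inv = 0 := by
      simp only [Category.assoc, Iso.inv_hom_id_assoc, T.d_comp_d_assoc, zero_comp, comp_zero]
    rw [this, Functor.map_zero, zero_comp, comp_zero]
  obtain ⟨W₂, hwW₂, hz⟩ := exists_zero_nhd w s (fun i => Φ.obj (FlatMod.freeMod X (q i)))
    (fun i => Φ.obj (FlatMod.freeMod X (q (i + 1 + 1))))
    (fun i => PerfLib.isFinFree_res W.ι ⟨q i, ⟨Iso.refl _⟩⟩)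
    (fun i => k i ≫ k (i + 1)) (fun i _ => hdd i)
  let Ψ := PerfLib.res W₂.ι
  let v : (W₂ : Scheme.{u}) := ⟨w, hwW₂⟩
  let E : CochainComplex (W₂ : Scheme.{u}).Modules ℤ :=
    CochainComplex.of (fun i => Ψ.obj (Φ.obj (FlatMod.freeMod X (q i)))) (fun i => Ψ.map (k i)) fun i => by
      by_cases hi : i ∈ s
      · rw [← Functor.map_comp]
        exact hz i hi
      · exact (Ψ.map_isZero (Φ.map_isZero
          (hzero i (by simp only [s, Finset.mem_Icc] at hi; omega)))).eq_of_src _ _
  let Ext₂ := ModuleCat.extendScalars.{u, u, u} (W₂.ι.stalkMap v).hom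
  haveI : Ext₂.IsEquivalence := isEquivalence_extend_stalk W₂.ι v
  let η := stalkResExt W₂.ι v
  let eE : ((DerSch.stalkFunctor _ v).mapHomologicalComplex (ComplexShape.up ℤ)).obj E ≅
      (Ext₂.mapHomologicalComplex (ComplexShape.up ℤ)).obj
        ((Ext.mapHomologicalComplex (ComplexShape.up ℤ)).obj T) :=
    HomologicalComplex.Hom.isoOfComponents
      (fun i => η.app _ ≪≫ Ext₂.mapIso (θ.app _ ≪≫ Ext.mapIso (e i)))
      fun i j hij => by
        obtain rfl : i + 1 = j := hij
        change (η.hom.app _ ≫ Ext₂.map (θ.hom.app _ ≫ Ext.map (e i).hom)) ≫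
            Ext₂.map (Ext.map (T.d i (i + 1))) =
          (DerSch.stalkFunctor _ v).map (E.d i (i + 1)) ≫
            η.hom.app _ ≫ Ext₂.map (θ.hom.app _ ≫ Ext.map (e (i + 1)).hom)
        rw [show E.d i (i + 1) = Ψ.map (k i) from CochainComplex.of_d (fun i => Ψ.obj (Φ.obj (FlatMod.freeMod X (q i)))) (fun i => Ψ.map (k i)) i]
        have hn := η.hom.naturality (k i)
        rw [Functor.comp_map, Functor.comp_map] at hn
        rw [reassoc_of% hn, Category.assoc, ← Functor.map_comp, ← Functor.map_comp]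
        refine congrArg (fun t => η.hom.app _ ≫ Ext₂.map t) ?_
        refine Eq.trans ?_ (congrArg (· ≫ θ.hom.app (FlatMod.freeMod X (q (i + 1))) ≫ Ext.map (e (i + 1)).hom)
          (hk' i)).symm
        simp only [Category.assoc, Iso.inv_hom_id_app_assoc, ← Functor.map_comp, Iso.inv_hom_id,
          Category.comp_id]
  let F₁ := ((Scheme.Modules.pushforward W₂.ι).mapHomologicalComplex (ComplexShape.up ℤ)).obj E
  let F := ((Scheme.Modules.pushforward W.ι).mapHomologicalComplex (ComplexShape.up ℤ)).obj F₁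
  let r₁ : (PerfLib.resC W₂.ι).obj F₁ ≅ E :=
    (NatIso.mapHomologicalComplex (resPushIso W₂.ι) (ComplexShape.up ℤ)).app E ≪≫
      (Functor.mapHomologicalComplexIdIso _ _).app E
  let r : (PerfLib.resC W.ι).obj F ≅ F₁ :=
    (NatIso.mapHomologicalComplex (resPushIso W.ι) (ComplexShape.up ℤ)).app F₁ ≪≫
      (Functor.mapHomologicalComplexIdIso _ _).app F₁
  obtain ⟨e₁⟩ := nonempty_stalk_push_iso W₂.ι v E
    ((Ext.mapHomologicalComplex (ComplexShape.up ℤ)).obj T) eE
  obtain ⟨e₀⟩ := nonempty_stalk_push_iso W.ι w F₁ T e₁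
  let g := W₂.ι ≫ W.ι
  refine ⟨g.opensRange, F, ⟨v, rfl⟩, ?_, ⟨e₀⟩⟩
  have hE : DCoh.IsStrictlyPerfect E := ⟨⟨a, b, fun i hi => Ψ.map_isZero (Φ.map_isZero (hzero i hi))⟩,
    fun i => isFinLocFree_of_isFinFree
      (PerfLib.isFinFree_res W₂.ι (PerfLib.isFinFree_res W.ι ⟨q i, ⟨Iso.refl _⟩⟩))⟩
  refine PerfLib.isPerfect_of_iso (PerfLib.resDQIso g.opensRange.ι F) ((PerfLib.isPerfect_iff _).2 fun z => ?_)
  let r' := (Scheme.Hom.isoOpensRange g).hom
  have hr : r' ≫ g.opensRange.ι = g := Scheme.Hom.isoOpensRange_hom_ι g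
  refine ⟨W₂, r', inferInstance, (Scheme.Hom.isoOpensRange g).inv z,
    by rw [← Scheme.Hom.comp_apply, Iso.inv_hom_id]; rfl, E, hE, ?_⟩
  obtain ⟨c₁⟩ := PerfLib.nonempty_resD_comp r' g.opensRange.ι (DCoh.toD X F)
  obtain ⟨c₂⟩ := PerfLib.nonempty_resD_congr hr (DCoh.toD X F)
  obtain ⟨c₃⟩ := PerfLib.nonempty_resD_comp W₂.ι W.ι (DCoh.toD X F)
  exact ⟨c₁.symm ≪≫ c₂ ≪≫ c₃ ≪≫ (PerfLib.resD W₂.ι).mapIso (PerfLib.resDQIso W.ι F ≪≫
    DerivedCategory.Q.mapIso r) ≪≫ PerfLib.resDQIso W₂.ι F₁ ≪≫ DerivedCategory.Q.mapIso r₁⟩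

end Groth.Agent.RelFlatLib
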