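import Groth.Agent.RelFlatLib.SmoothAmp
import Groth.Agent.KFlatLib.PerfectCrit
import Groth.Agent.DRingLib.AmplitudeTri

/-!
# Finite tor amplitude of a pseudo-coherent object is an open condition
-/

set_option autoImplicit false
set_option linter.style.haveILetI false
set_option backward.isDefEq.respectTransparency false
set_option backward.isDefEq.respectTransparency.types false

universe u

open CategoryTheory CategoryTheory.Limits AlgebraicGeometry HomologicalComplex
open CochainComplex (mappingCone)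

attribute [local instance] HasDerivedCategory.standard

namespace Groth.Agent.RelFlatLib

open KFlatLib

variable {X : Scheme.{u}}

/-- A flat module with a finite presentation is finite free near every point. -/
theorem freeNear_of_flatAt {M : X.Modules} {p q : ℕ}
    (g : FlatMod.freeMod X p ⟶ FlatMod.freeMod X q) (π : FlatMod.freeMod X q ⟶ M) (w : g ≫ π = 0)
    (hc : IsColimit (CokernelCofork.ofπ π w)) (x : X) (hM : FlatMod.IsFlatAt M x) : FreeNear M x := by
  let R := X.presheaf.stalk x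
  let N := (DerSch.stalkFunctor X x).obj M
  have : Epi π := Cofork.IsColimit.epi hc
  have : Module.Finite R N := Module.Finite.of_surjective
    ((stalkFreeModIso X x q).inv ≫ (DerSch.stalkFunctor X x).map π).hom
    ((ModuleCat.epi_iff_surjective _).mp inferInstance)
  have : Module.Flat R N := hM
  have : Module.Free R N := Module.free_of_flat_of_isLocalRing
  let b := Module.Free.chooseBasis R N
  let b' := b.reindex (Fintype.equivFin _)
  let e := stalkFreeModIso X x _ ≪≫ b'.equivFun.symm.toModuleIso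
  obtain ⟨U, hU, k, hk⟩ := exists_lift_pullback x e.hom
  let y : (U : Scheme.{u}) := ⟨x, hU⟩
  let Φ := Scheme.Modules.pullback U.ι
  let ep := pullFreeIso U.ι p
  let eq := pullFreeIso U.ι q
  have : IsIso ((DerSch.stalkFunctor _ y).map k) := by
    rw [hk]
    infer_instance
  have : IsIso ((DerSch.stalkFunctor _ y).map ((pullFreeIso U.ι _).inv ≫ k)) := by
    rw [Functor.map_comp]
    infer_instance
  have w₀ : Φ.map g ≫ Φ.map π = 0 := by rw [← Functor.map_comp, w, Functor.map_zero]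
  have w' : (ep.inv ≫ Φ.map g ≫ eq.hom) ≫ eq.inv ≫ Φ.map π = 0 := by
    rw [Category.assoc, Category.assoc, Iso.hom_inv_id_assoc, w₀, comp_zero]
  exact freeNear_of_pullback y (freeNear_of_stalkIso (ep.inv ≫ Φ.map g ≫ eq.hom) (eq.inv ≫ Φ.map π) w'
    (isColimitConj (g := Φ.map g) (π := Φ.map π) (w := w₀)
      (CokernelCofork.mapIsColimit _ hc Φ) ep.symm eq.symm w')
    ((pullFreeIso U.ι _).inv ≫ k))

/-- The lowest term of a complex, flat above it, with tor amplitude from that degree on, is flat. -/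
theorem flat_X_of_amp {R : Type u} [CommRing R] (T : DRing.Cx R) (a b B : ℤ)
    (hTa : ∀ i, i < a → IsZero (T.X i)) (hTB : ∀ i, B < i → IsZero (T.X i))
    (hT : ∀ i, a < i → Module.Flat R (T.X i))
    (hamp : DRing.HasTorAmplitudeIn R a b (DRing.toD T)) : Module.Flat R (T.X a) := by
  let B' := max B (max a b)
  obtain ⟨P, hPb, hPf, ⟨eP⟩⟩ := DRingLib.exists_free_rep (DRing.toD T) B' fun i hi =>
    DRingLib.isZero_Hn_Q T i (hTB i (by omega))
  haveI := DRingLib.isKProjective_of_free P B' hPb hPf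
  obtain ⟨g, hg⟩ := DRingLib.exists_qis_of_iso P T eP
  have hPflat : ∀ i, Module.Flat R (P.X i) := fun i => haveI := hPf i; inferInstance
  have hA : DRingLib.Amp a b P :=
    DRingLib.amp_of_hasTorAmplitudeIn hamp (DRingLib.isKFlat_of_free P B' hPb hPf) eP
  haveI : T.IsStrictlyGE a := (CochainComplex.isStrictlyGE_iff T a).mpr hTa
  have : QuasiIso (CochainComplex.truncGEMap g a) :=
    (CochainComplex.quasiIso_truncGEMap_iff g a).mpr fun i _ => inferInstance
  let φ : P.truncGE a ⟶ T := CochainComplex.truncGEMap g a ≫ inv (T.πTruncGE a)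
  have : QuasiIso φ := quasiIso_comp _ _
  let L := P.truncGE a
  have hL : ∀ i, Module.Flat R (L.X i) := DRingLib.flat_truncGE hPflat hA
  have hLv := DRingLib.vanishesOutside_truncGE hPb a
  let C := mappingCone φ
  let hs := CochainComplex.mappingCone.triangleRotateShortComplexSplitting φ
  have hfl : ∀ n, Module.Flat R (T.X n) → Module.Flat R (C.X n) := fun n h =>
    @flat_of_splitting _ _ _ (hs n) h (hL (n + 1))
  have hz : ∀ n, IsZero (L.X (n + 1)) → IsZero (T.X n) → IsZero (C.X n) := fun n h₁ h₂ =>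
    (IsZero.iff_id_eq_zero _).mpr
      (CochainComplex.mappingCone.ext_from φ (n + 1) n rfl (h₁.eq_of_src _ _) (h₂.eq_of_src _ _))
  have : Module.Flat R (C.X (a - 1)) := hfl _ (by
    haveI := ModuleCat.subsingleton_of_isZero (hTa (a - 1) (by omega))
    infer_instance)
  have hflat := flat_X_of_acyclic C ((acyclic_cone_iff φ).mpr inferInstance) a B'
    (fun i hi => hz i (hLv _ (Or.inr (by omega))) (hTB i (by omega)))
    (fun i hi => hfl i (hT i hi)) (hz _ (hLv _ (Or.inl (by omega))) (hTa _ (by omega)))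
  exact Module.Flat.of_retract (M := (C.X a : Type u))
    ((CochainComplex.mappingCone.inr φ).f a).hom
    ((CochainComplex.mappingCone.snd φ).v a a (add_zero a)).hom
    (congrArg ModuleCat.Hom.hom (CochainComplex.mappingCone.inr_f_snd_v φ a))

/-- A pseudo-coherent object of finite tor amplitude at a point, with bounded below cohomology, is
perfect near the point. -/
theorem exists_perfect_nhd {K : DCoh.D X} {a b : ℤ} (hpc : DCoh.IsPseudoCoherentD (a - 1) K)
    (hlow : ∀ i, i < a → IsZero (DCoh.HD K i)) {x : X} (hx : AmpD (𝟙 X) a b K x) :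
    ∃ W : X.Opens, x ∈ W ∧ DCoh.IsPerfect ((Groth.Agent.PerfLib.resD W.ι).obj K) := by
  obtain ⟨V, j, hj, v, rfl, E₀, α₀, hE₀, hα₀⟩ := (PerfLib.isPC_iff _ K).1 hpc x
  obtain ⟨W₀, hvW₀, hfree⟩ := exists_freeBdd_restrict hE₀ v
  let k := W₀.ι ≫ j
  obtain ⟨cK⟩ := PerfLib.nonempty_resD_comp W₀.ι j K
  let KW := (Groth.Agent.PerfLib.resD k).obj K
  let E := (Groth.Agent.PerfLib.resC W₀.ι).obj E₀
  have hEf : ∀ i, IsFinFree (E.X i) := fun i =>
    isFinFree_of_iso ((Scheme.Modules.restrictFunctorIsoPullback W₀.ι).app (E₀.X i)).symm (hfree.2 i)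
  obtain ⟨⟨c₀, d₀, hv₀⟩, -⟩ := hE₀
  let α : DCoh.toD _ E ⟶ KW := (Groth.Agent.PerfLib.resDQIso W₀.ι E₀).inv ≫
    (Groth.Agent.PerfLib.resD W₀.ι).map α₀ ≫ cK.inv
  have hα : PerfLib.IAE α (a - 1) := (PerfLib.IAE.of_isIso _ _).comp
    ((PerfLib.IAE.map (Groth.Agent.PerfLib.res W₀.ι) hα₀).comp (PerfLib.IAE.of_isIso _ _))
  haveI : KW.IsGE a := (DerivedCategory.isGE_iff KW a).2 fun i hi =>
    ((Groth.Agent.PerfLib.res k).map_isZero (hlow i hi)).of_iso (Groth.Agent.PerfLib.resHDIso k K i)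
  obtain ⟨F, hF, ⟨eF⟩⟩ := DerivedCategory.exists_iso_Q_obj_of_isGE KW a
  obtain ⟨F', _, g, s, hs, hfac⟩ := DerivedCategory.left_fac_of_isStrictlyGE (α ≫ eF.hom) a
  have hg : ∀ i, a ≤ i → QuasiIsoAt g i := fun i hi => by
    rw [quasiIsoAt_iff_isIso_homologyMap]
    have h1 := hα.1 i (by omega)
    have h2 : IsIso ((DerivedCategory.homologyFunctor _ i).map (α ≫ eF.hom)) := by
      rw [Functor.map_comp]
      infer_instance
    rw [hfac, Functor.map_comp] at h2
    have : IsIso ((DerivedCategory.homologyFunctor _ i).map (DerivedCategory.Q.map g)) :=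
      IsIso.of_isIso_comp_right _
        ((DerivedCategory.homologyFunctor _ i).map (inv (DerivedCategory.Q.map s)))
    exact (NatIso.isIso_map_iff (DerivedCategory.homologyFunctorFactors _ i) g).mp this
  let T := E.truncGE a
  have : QuasiIso (CochainComplex.truncGEMap g a) :=
    (CochainComplex.quasiIso_truncGEMap_iff g a).mpr hg
  have hgiso : IsIso (DerivedCategory.Q.map (CochainComplex.truncGEMap g a)) :=
    (DerivedCategory.isIso_Q_map_iff_quasiIso (φ := CochainComplex.truncGEMap g a)).mpr inferInstance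
  let eT : DCoh.toD _ T ≅ KW :=
    asIso (DerivedCategory.Q.map (CochainComplex.truncGEMap g a)) ≪≫
      DerivedCategory.Q.mapIso (asIso (F'.πTruncGE a)).symm ≪≫
      (asIso (DerivedCategory.Q.map s)).symm ≪≫ eF.symm
  let B := max a d₀
  have hTa : ∀ i, i < a → IsZero (T.X i) := fun i hi => CochainComplex.isZero_of_isStrictlyGE T a i hi
  have hTB : ∀ i, B < i → IsZero (T.X i) := fun i hi =>
    ((Groth.Agent.PerfLib.res W₀.ι).map_isZero (hv₀ i (Or.inr (by omega)))).of_iso
      (E.truncGEXIso a i (by omega))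
  have hTf : ∀ i, a < i → IsFinFree (T.X i) := fun i hi =>
    isFinFree_of_iso (E.truncGEXIso a i hi).symm (hEf i)
  let w : (W₀ : Scheme.{u}) := ⟨v, hvW₀⟩
  have hw : AmpD (𝟙 _) a b (DCoh.toD _ T) w :=
    ampD_of_iso _ eT.symm ((ampD_id_res_iff k w a b K).2 hx)
  have hflat : FlatMod.IsFlatAt (T.X a) w := by
    have h1 := flat_X_of_amp ((DerSch.stalkCxOver (𝟙 _) w).obj T) a b B
      (fun i hi => (DerSch.stalkOver (𝟙 _) w).map_isZero (hTa i hi))
      (fun i hi => (DerSch.stalkOver (𝟙 _) w).map_isZero (hTB i hi))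
      (fun i hi => (isFlatOver_id_iff _).2 (isFlat_of_isFinLocFree (isFinLocFree_of_isFinFree (hTf i hi))) w)
      ((ampD_rep _ (Iso.refl _) w).1 hw)
    letI := FlatMod.moduleStalkOver (𝟙 (W₀ : Scheme.{u})) (T.X a) w
    refine (RichLib.ModFlat.flat_iff_of_semilinear
      (R := (W₀ : Scheme.{u}).presheaf.stalk ((𝟙 (W₀ : Scheme.{u}) : _ ⟶ _).base w))
      (R' := (W₀ : Scheme.{u}).presheaf.stalk w) (M := (T.X a).presheaf.stalk w) (M' := (T.X a).presheaf.stalk w)
      (RingEquiv.refl ((W₀ : Scheme.{u}).presheaf.stalk w)) (AddEquiv.refl _) fun r m => ?_).1 h1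
    have h : (Scheme.Hom.stalkMap (𝟙 (W₀ : Scheme.{u})) w).hom r = r := by rw [Scheme.Hom.stalkMap_id]; rfl
    exact congrArg (fun q : (W₀ : Scheme.{u}).presheaf.stalk w => q • (m : (T.X a).presheaf.stalk w)) h
  have hnear : FreeNear (T.X a) w := by
    obtain ⟨p, ⟨ep⟩⟩ := hEf (a - 1)
    obtain ⟨q, ⟨eq⟩⟩ := hEf a
    let eo := (E.truncGEXIsoOpcycles a).symm
    have w₀ : E.d (a - 1) a ≫ E.pOpcycles a ≫ eo.hom = 0 := by
      rw [← Category.assoc, d_pOpcycles, zero_comp]
    have hc₀ : IsColimit (CokernelCofork.ofπ (E.pOpcycles a ≫ eo.hom) w₀) :=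
      IsColimit.ofIsoColimit (E.opcyclesIsCokernel (a - 1) a (by simp))
        (Cocone.ext eo (by rintro (_ | _) <;> simp))
    refine freeNear_of_flatAt _ _ ?_ (isColimitConj hc₀ ep.symm eq.symm ?_) w hflat
    all_goals
      simp only [Iso.symm_hom, Iso.symm_inv, Category.assoc, Iso.hom_inv_id_assoc]
      rw [w₀, comp_zero]
  obtain ⟨U, hwU, hU⟩ := hnear
  let l := U.ι ≫ k
  refine ⟨l.opensRange, ⟨⟨w, hwU⟩, rfl⟩, (PerfLib.isPerfect_iff _).2 fun z => ?_⟩
  obtain ⟨u', hu'⟩ := z.2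
  have hS : DCoh.IsStrictlyPerfect ((Groth.Agent.PerfLib.resC U.ι).obj T) := by
    refine ⟨⟨a, B, fun i hi => (Groth.Agent.PerfLib.res U.ι).map_isZero
      (hi.elim (hTa i) (hTB i))⟩, fun i => ?_⟩
    rcases lt_trichotomy i a with hi | hi | hi
    · exact isFinLocFree_of_isFinFree (isFinFree_of_isZero
        ((Groth.Agent.PerfLib.res U.ι).map_isZero (hTa i hi)))
    · exact hi ▸ isFinLocFree_of_isFinFree
        (isFinFree_of_iso ((Scheme.Modules.restrictFunctorIsoPullback U.ι).app (T.X a)).symm hU)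
    · exact PerfLib.isFinLocFree_res U.ι (isFinLocFree_of_isFinFree (hTf i hi))
  have hM : PerfLib.HasModel l K := by
    obtain ⟨c⟩ := PerfLib.nonempty_resD_comp U.ι k K
    exact ⟨_, hS, ⟨c ≪≫ (Groth.Agent.PerfLib.resD U.ι).mapIso eT.symm ≪≫
      Groth.Agent.PerfLib.resDQIso U.ι T⟩⟩
  haveI : IsOpenImmersion (Scheme.Hom.isoOpensRange l).hom := inferInstance
  obtain ⟨G, hG, ⟨eG⟩⟩ := hM
  obtain ⟨c⟩ := PerfLib.nonempty_resD_comp (Scheme.Hom.isoOpensRange l).hom l.opensRange.ι K
  obtain ⟨d⟩ := PerfLib.nonempty_resD_congr (f := (Scheme.Hom.isoOpensRange l).hom ≫ l.opensRange.ι) (g := l)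
    (by rw [Scheme.Hom.isoOpensRange_hom_ι]) K
  refine ⟨_, (Scheme.Hom.isoOpensRange l).hom, inferInstance, (Scheme.Hom.isoOpensRange l).inv z, ?_,
    G, hG, ⟨c.symm ≪≫ d ≪≫ eG⟩⟩
  rw [← Scheme.Hom.comp_apply, Iso.inv_hom_id]
  rfl

end Groth.Agent.RelFlatLib
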