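import Groth.Agent.RelFlatLib.FibreAmp
import Groth.Agent.RelFlatLib.SmoothAmp

/-!
# Stalks and closed fibres of a flat morphism of finite presentation
-/

set_option autoImplicit false
set_option linter.style.haveILetI false
set_option backward.isDefEq.respectTransparency false
set_option backward.isDefEq.respectTransparency.types false

universe u

open CategoryTheory CategoryTheory.Limits AlgebraicGeometry HomologicalComplex
open scoped TensorProduct

attribute [local instance] HasDerivedCategory.standard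

namespace Groth.Agent.RelFlatLib

variable {X Y : Scheme.{u}}

/-- The local rings of a morphism locally of finite presentation. -/
theorem isEssFP_stalkMap (f : X ⟶ Y) [LocallyOfFinitePresentation f] (x : X) :
    letI := (f.stalkMap x).hom.toAlgebra
    CAlgX.IsEssFinitePresentation (Y.presheaf.stalk (f x)) (X.presheaf.stalk x) := by
  obtain ⟨_, ⟨(V : Y.Opens), hV, rfl⟩, hxV, -⟩ :=
    Y.isBasis_affineOpens.exists_subset_of_mem_open (Set.mem_univ (f x)) isOpen_univ
  obtain ⟨_, ⟨(U : X.Opens), hU, rfl⟩, hxU, hUV⟩ :=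
    X.isBasis_affineOpens.exists_subset_of_mem_open (show x ∈ f ⁻¹ᵁ V from hxV) (f ⁻¹ᵁ V).2
  let R := Γ(Y, V)
  let S := Γ(X, U)
  let A := Y.presheaf.stalk (f x)
  let B := X.presheaf.stalk x
  letI algS : Algebra R S := (f.appLE V U hUV).hom.toAlgebra
  letI algA : Algebra R A := (Y.presheaf.germ V (f x) hxV).hom.toAlgebra
  letI algB : Algebra S B := (X.presheaf.germ U x hxU).hom.toAlgebra
  letI algAB : Algebra A B := (f.stalkMap x).hom.toAlgebra
  letI algRB : Algebra R B := ((algebraMap A B).comp (algebraMap R A)).toAlgebra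
  haveI : IsScalarTower R A B := IsScalarTower.of_algebraMap_eq fun _ => rfl
  haveI : IsScalarTower R S B := IsScalarTower.of_algebraMap_eq fun r => by
    show (f.stalkMap x).hom ((Y.presheaf.germ V (f x) hxV).hom r) =
      (X.presheaf.germ U x hxU).hom ((f.appLE V U hUV).hom r)
    rw [Scheme.Hom.germ_stalkMap_apply]
    simp only [Scheme.Hom.appLE, CommRingCat.comp_apply]
    exact (TopCat.Presheaf.germ_res_apply X.presheaf (homOfLE hUV) x hxU _).symm
  haveI : IsLocalization.AtPrime A (hV.primeIdealOf ⟨f x, hxV⟩).asIdeal :=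
    hV.isLocalization_stalk ⟨f x, hxV⟩
  haveI : IsLocalization.AtPrime B (hU.primeIdealOf ⟨x, hxU⟩).asIdeal :=
    hU.isLocalization_stalk ⟨x, hxU⟩
  let q := (hV.primeIdealOf ⟨f x, hxV⟩).asIdeal
  let p := (hU.primeIdealOf ⟨x, hxU⟩).asIdeal
  haveI : Algebra.FinitePresentation R S :=
    LocallyOfFinitePresentation.finitePresentation_appLE (f := f) hV hU hUV
  letI : Algebra S (A ⊗[R] S) := Algebra.TensorProduct.rightAlgebra
  let l : A ⊗[R] S →ₐ[A] B := Algebra.TensorProduct.lift (Algebra.ofId A B)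
    (IsScalarTower.toAlgHom R S B) fun _ _ => mul_comm _ _
  letI : Algebra (A ⊗[R] S) B := l.toRingHom.toAlgebra
  haveI : IsScalarTower A (A ⊗[R] S) B := IsScalarTower.of_algebraMap_eq fun a => (l.commutes a).symm
  haveI : IsScalarTower S (A ⊗[R] S) B := IsScalarTower.of_algebraMap_eq fun s => by
    show algebraMap S B s = l ((1 : A) ⊗ₜ s)
    simp [l]
  haveI : IsLocalization (Algebra.algebraMapSubmonoid S q.primeCompl) (A ⊗[R] S) :=
    IsLocalization.tensorRight (R := R) (S := S) A q.primeCompl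
  have hle : Algebra.algebraMapSubmonoid S q.primeCompl ≤ p.primeCompl := by
    rintro _ ⟨r, hr, rfl⟩ hp
    have h1 : IsUnit (algebraMap A B (algebraMap R A r)) :=
      (IsLocalization.map_units A (⟨r, hr⟩ : q.primeCompl)).map _
    rw [← IsScalarTower.algebraMap_apply R A B, IsScalarTower.algebraMap_apply R S B] at h1
    exact (IsLocalization.AtPrime.isUnit_to_map_iff B p _).1 h1 hp
  exact ⟨A ⊗[R] S, inferInstance, inferInstance, inferInstance, inferInstance,
    p.primeCompl.map (algebraMap S (A ⊗[R] S)), inferInstance,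
    IsLocalization.isLocalization_of_submonoid_le (A ⊗[R] S) B _ _ hle⟩

/-- Vanishing cohomology has vanishing stalks. -/
theorem isZero_homology_stalkCx {P : CochainComplex X.Modules ℤ} {i : ℤ}
    (h : IsZero (P.homology i)) (x : X) : IsZero (((KFlatLib.stalkCx X x).obj P).homology i) :=
  ((DerSch.stalkFunctor X x).map_isZero h).of_iso ((P.sc i).mapHomologyIso (DerSch.stalkFunctor X x))

/-- Vanishing stalks of cohomology. -/
theorem isZero_stalk_homology {P : CochainComplex X.Modules ℤ} {i : ℤ} {x : X}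
    (h : IsZero (((KFlatLib.stalkCx X x).obj P).homology i)) :
    IsZero ((DerSch.stalkFunctor X x).obj (P.homology i)) :=
  h.of_iso ((P.sc i).mapHomologyIso (DerSch.stalkFunctor X x)).symm

theorem pc_of_res_id {R : Type u} [CommRing R] {θ : R →+* R} (hθ : θ = RingHom.id R)
    (M : CochainComplex (ModuleCat.{u} R) ℤ) {m : ℤ}
    (h : DRing.IsPseudoCoherent R m (DerivedCategory.Q.obj ((TwoTermLib.RelAmp.resCx θ).obj M))) :
    DRing.IsPseudoCoherent R m (DerivedCategory.Q.obj M) := by
  subst hθ
  exact DRingLib.isPseudoCoherent_of_iso (DerivedCategory.Q.mapIso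
    (HomologicalComplex.Hom.isoOfComponents (fun n => (ModuleCat.restrictScalarsId R).app (M.X n))
      (fun i j _ => ((ModuleCat.restrictScalarsId R).hom.naturality (M.d i j)).symm))) h

/-- The stalk of a pseudo-coherent complex is pseudo-coherent over the local ring. -/
theorem stalkCx_pc {P : CochainComplex X.Modules ℤ} {K : DCoh.D X} (e : DCoh.toD X P ≅ K) {m : ℤ}
    (h : DCoh.IsPseudoCoherentD m K) (x : X) :
    DRing.IsPseudoCoherent (X.presheaf.stalk x) m
      (DerivedCategory.Q.obj ((KFlatLib.stalkCx X x).obj P)) := by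
  refine pc_of_res_id (θ := ((𝟙 X : X ⟶ X).stalkMap x).hom) ?_ _
    (DRingLib.isPseudoCoherent_of_iso
      ((DerSch.stalkOver (𝟙 X) x).mapDerivedCategory.mapIso e.symm ≪≫
        (DerSch.stalkOver (𝟙 X) x).mapDerivedCategoryFactors.app P) (stalk_pc h x))
  rw [Scheme.Hom.stalkMap_id]
  rfl

variable (f : X ⟶ Y)

/-- The closed fibre of a complex of tor amplitude `[a, b]` over the base, at a point of the fibre. -/
theorem isZero_pullFibre_of_amp [Flat f] (s : Y) (y : f.fiber s) {P : CochainComplex X.Modules ℤ}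
    (hP : DCoh.IsKFlat P) {a b : ℤ} (h : DerSch.HasTorAmplitudeAt f a b P (f.fiberι s y))
    (i : ℤ) (hi : i < a ∨ b < i) :
    IsZero (((KFlatLib.stalkCx (f.fiber s) y).obj
      ((KFlatLib.pullCx (f.fiberι s)).obj P)).homology i) := by
  obtain ⟨hs, hk⟩ := Groth.Agent.S9501.result f s y
  refine (isZero_fibre_of_amp (f.stalkMap (f.fiberι s y)).hom ((f.fiberι s).stalkMap y).hom
    (Flat.stalkMap f _) hs hk (KFlatLib.stalks_isKFlat hP _) h i hi).of_iso ?_
  exact (HomologicalComplex.homologyFunctor _ _ i).mapIso (KFlatLib.stalkPullCxIso (f.fiberι s) y P)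

/-- Finite tor amplitude over the base from boundedness below on the fibre. -/
theorem exists_ampAt_of_pullFibre [Flat f] [LocallyOfFinitePresentation f] (s : Y) (y : f.fiber s)
    {P : CochainComplex X.Modules ℤ} (hP : DCoh.IsKFlat P)
    (hpc : ∀ m, DCoh.IsPseudoCoherentD m (DCoh.toD X P)) {a₀ a₁ : ℤ}
    (h₀ : ∀ i, i < a₀ → IsZero (((KFlatLib.stalkCx X (f.fiberι s y)).obj P).homology i))
    (h₁ : ∀ i, i < a₁ → IsZero (((KFlatLib.stalkCx (f.fiber s) y).obj
      ((KFlatLib.pullCx (f.fiberι s)).obj P)).homology i)) :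
    ∃ a b : ℤ, DerSch.HasTorAmplitudeAt f a b P (f.fiberι s y) := by
  obtain ⟨hs, hk⟩ := Groth.Agent.S9501.result f s y
  exact exists_amp_of_fibre (f.stalkMap (f.fiberι s y)).hom ((f.fiberι s).stalkMap y).hom
    (Flat.stalkMap f _) (isEssFP_stalkMap f _) hs hk (KFlatLib.stalks_isKFlat hP _)
    (fun m => stalkCx_pc (Iso.refl _) (hpc m) _) h₀ fun i hi => (h₁ i hi).of_iso
      ((HomologicalComplex.homologyFunctor _ _ i).mapIso (KFlatLib.stalkPullCxIso (f.fiberι s) y P)).symm

end Groth.Agent.RelFlatLib
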