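import Groth.Agent.RelFlatLib.SpreadIso
import Groth.Agent.RelPCSchLib.Flat
import Groth.Agent.RelPCSchLib.Immersion
import Groth.Agent.PerfLib.PCohSummand
import Groth.Agent.RichLib.FlatLociOpen

/-!
# Relative perfection is an open condition
-/

set_option autoImplicit false
set_option linter.style.haveILetI false
set_option backward.isDefEq.respectTransparency false
set_option backward.isDefEq.respectTransparency.types false

universe u

open CategoryTheory CategoryTheory.Limits AlgebraicGeometry HomologicalComplex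

attribute [local instance] HasDerivedCategory.standard
attribute [local instance] Groth.Agent.ImmPCLib.lim_push Groth.Agent.ImmPCLib.colim_push

namespace Groth.Agent.RelFlatLib

open KFlatLib
open Groth.Agent.ImmPCLib (pushD)

/-- An upper bound of tor amplitude from the vanishing of cohomology. -/
theorem amp_upper {R : Type u} [CommRing R] {K : Dual.D R} {a B b : ℤ}
    (h : DRing.HasTorAmplitudeIn R a B K)
    (hb : ∀ i, b < i → IsZero ((DerivedCategory.homologyFunctor (ModuleCat.{u} R) i).obj K)) :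
    DRing.HasTorAmplitudeIn R a b K := by
  obtain ⟨P, hPb, hPf, ⟨eP⟩⟩ := DRingLib.exists_free_rep K b hb
  have hPflat : ∀ i, Module.Flat R (P.X i) := fun i => haveI := hPf i; inferInstance
  have hA : DRingLib.Amp a B P :=
    DRingLib.amp_of_hasTorAmplitudeIn h (DRingLib.isKFlat_of_free P b hPb hPf) eP
  have hGE : P.IsGE a := (CochainComplex.isGE_iff P a).2 fun i hi =>
    (exactAt_iff_isZero_homology _ i).2 ((DRingLib.isZero_Hn_of_hasTorAmplitudeIn h i (Or.inl hi)).of_iso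
      (((DerivedCategory.homologyFunctorFactors _ i).app P).symm ≪≫
        (DerivedCategory.homologyFunctor _ i).mapIso eP))
  have : QuasiIso (P.πTruncGE a) := (CochainComplex.quasiIso_πTruncGE_iff P a).mpr hGE
  exact ⟨P.truncGE a, DRingLib.vanishesOutside_truncGE hPb a, DRingLib.flat_truncGE hPflat hA,
    ⟨(asIso (DerivedCategory.Q.map (P.πTruncGE a))).symm ≪≫ eP⟩⟩

variable {X P S : Scheme.{u}}

/-- Relative pseudo-coherence over a flat finitely presented morphism is absolute. -/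
theorem rel_id_iff (g : P ⟶ S) [Flat g] [LocallyOfFinitePresentation g] (m : ℤ) (K : DCoh.D P) :
    DerSch.IsPseudoCoherentRel g m K ↔ DCoh.IsPseudoCoherentD m K := by
  have h1 := RelPCSchLib.rel_comp_iff (𝟙 P) g (RelPCSchLib.phBase_of_flat g) m K
  rw [Category.id_comp] at h1
  rw [h1, RelPCSchLib.rel_immersion_iff]
  obtain ⟨c⟩ := RelPCSchLib.nonempty_push_id K
  exact ⟨fun h => PerfLib.isPC_of_iso c h, fun h => PerfLib.isPC_of_iso c.symm h⟩

/-- A pseudo-coherent object with bounded below cohomology has a local truncated model. -/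
theorem exists_trunc_model {K : DCoh.D P} {a : ℤ} (hpc : DCoh.IsPseudoCoherentD (a - 1) K)
    (hH : ∀ i, i < a → IsZero (DCoh.HD K i)) (y : P) :
    ∃ (W : Scheme.{u}) (k : W ⟶ P) (_ : IsOpenImmersion k) (w : W) (T : CochainComplex W.Modules ℤ)
      (B : ℤ), k w = y ∧ DCoh.VanishesOutside T a B ∧ (∀ i, a < i → FlatMod.IsFlat (T.X i)) ∧
        (∀ i, PerfLib.FPFree (T.X i)) ∧
        Nonempty (DCoh.toD W T ≅ (Groth.Agent.PerfLib.resD k).obj K) := by
  obtain ⟨V, j, hj, v, rfl, E₀, α₀, hE₀, hα₀⟩ := (PerfLib.isPC_iff _ K).1 hpc y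
  obtain ⟨W₀, hvW₀, hfree⟩ := exists_freeBdd_restrict hE₀ v
  let k := W₀.ι ≫ j
  obtain ⟨cK⟩ := PerfLib.nonempty_resD_comp W₀.ι j K
  let KW := (Groth.Agent.PerfLib.resD k).obj K
  let E := (Groth.Agent.PerfLib.resC W₀.ι).obj E₀
  have hEf : ∀ i, IsFinFree (E.X i) := fun i =>
    isFinFree_of_iso ((Scheme.Modules.restrictFunctorIsoPullback W₀.ι).app (E₀.X i)).symm (hfree.2 i)
  obtain ⟨⟨c₀, d₀, hv₀⟩, -⟩ := hE₀
  let α : DCoh.toD _ E ⟶ KW := (Groth.Agent.PerfLib.resDQIso W₀.ι E₀).inv ≫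
    (Groth.Agent.PerfLib.resD W₀.ι).map α₀ ≫ cK.inv
  have hα : PerfLib.IAE α (a - 1) := (PerfLib.IAE.of_isIso _ _).comp
    ((PerfLib.IAE.map (Groth.Agent.PerfLib.res W₀.ι) hα₀).comp (PerfLib.IAE.of_isIso _ _))
  haveI : KW.IsGE a := (DerivedCategory.isGE_iff KW a).2 fun i hi =>
    ((Groth.Agent.PerfLib.res k).map_isZero (hH i hi)).of_iso (Groth.Agent.PerfLib.resHDIso k K i)
  obtain ⟨eT⟩ := nonempty_iso_truncGE a α fun i hi => hα.1 i (by omega)
  let T := E.truncGE a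
  let B := max a d₀
  have hTa : ∀ i, i < a → IsZero (T.X i) := fun i hi => CochainComplex.isZero_of_isStrictlyGE T a i hi
  have hTB : ∀ i, B < i → IsZero (T.X i) := fun i hi =>
    ((Groth.Agent.PerfLib.res W₀.ι).map_isZero (hv₀ i (Or.inr (by omega)))).of_iso
      (E.truncGEXIso a i (by omega))
  have hTf : ∀ i, a < i → IsFinFree (T.X i) := fun i hi =>
    isFinFree_of_iso (E.truncGEXIso a i hi).symm (hEf i)
  have hfp : ∀ {M : (W₀ : Scheme.{u}).Modules}, IsFinFree M → PerfLib.FPFree M := fun {M} hM =>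
    ⟨M, M, 0, hM, hM, ⟨cokernelZeroIsoTarget⟩⟩
  let eo := E.truncGEXIsoOpcycles a ≪≫
    (E.opcyclesIsCokernel (a - 1) a (by simp)).coconePointUniqueUpToIso (colimit.isColimit _)
  refine ⟨W₀, k, inferInstance, ⟨v, hvW₀⟩, T, B, rfl, fun i hi => hi.elim (hTa i) (hTB i),
    fun i hi => isFlat_of_isFinLocFree (isFinLocFree_of_isFinFree (hTf i hi)), fun i => ?_, ⟨eT⟩⟩
  rcases lt_trichotomy i a with hi | hi | hi
  · exact hfp (isFinFree_of_isZero (hTa i hi))
  · subst hi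
    exact ⟨_, _, E.d (i - 1) i, hEf (i - 1), hEf i, ⟨eo.symm⟩⟩
  · exact hfp (hTf i hi)

theorem isFP_of_fpfree {M : X.Modules} (h : PerfLib.FPFree M) : CohB1.IsFP M :=
  PerfLib.isFP_of_local fun z => ⟨X, 𝟙 X, inferInstance, z, rfl, h.res (𝟙 X)⟩

theorem isQCoh_of_fp {M : X.Modules} (h : CohB1.IsFP M) : Coh.IsQCoh M := by
  obtain ⟨σ, -⟩ := h.exists_quasicoherentData
  exact SheafOfModules.QuasicoherentData.isQuasicoherent (R := X.ringCatSheaf) (M := M) σ

theorem isFlatOverAt_res {g : P ⟶ S} {Z : Scheme.{u}} (j : Z ⟶ P) [IsOpenImmersion j] {M : P.Modules}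
    (z : Z) (h : FlatMod.IsFlatOverAt g M (j z)) :
    FlatMod.IsFlatOverAt (j ≫ g) ((Groth.Agent.PerfLib.res j).obj M) z :=
  show Module.Flat (S.presheaf.stalk ((j ≫ g).base z))
      ↑((DerSch.stalkOver (j ≫ g) z).obj ((Groth.Agent.PerfLib.res j).obj M)) from
    haveI : Module.Flat (S.presheaf.stalk (g.base (j z))) ↑((DerSch.stalkOver g (j z)).obj M) := h
    Module.Flat.of_linearEquiv (R := S.presheaf.stalk (g.base (j z)))
      (M := ((DerSch.stalkOver g (j z)).obj M : Type u))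
      ((stalkOverRestrict g j z).app M).toLinearEquiv

theorem isFlatOver_res_of {g : P ⟶ S} {Z : Scheme.{u}} (j : Z ⟶ P) [IsOpenImmersion j]
    {M : P.Modules} (h : ∀ z : Z, FlatMod.IsFlatOverAt g M (j z)) :
    FlatMod.IsFlatOver (j ≫ g) ((Groth.Agent.PerfLib.res j).obj M) := fun z => isFlatOverAt_res j z (h z)

/-- A complex of finitely presented modules flat over the base is pseudo-coherent in every degree. -/
theorem isPC_of_flat_fp_terms (g : P ⟶ S) [Flat g] [LocallyOfFinitePresentation g] (T : CochainComplex P.Modules ℤ) (B : ℤ)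
    (hB : ∀ i, B < i → IsZero (T.X i)) (hfl : ∀ i, FlatMod.IsFlatOver g (T.X i))
    (hfp : ∀ i, PerfLib.FPFree (T.X i)) (m : ℤ) : DCoh.IsPseudoCoherentD m (DCoh.toD P T) :=
  (rel_id_iff g m _).1 (RelPCSchLib.relAll_of_flat_terms g T B hB hfl
    (fun i => (rel_id_iff g (-1) _).2 (PerfLib.isPC_neg_one_of_isFP (isFP_of_fpfree (hfp i)))) m)

/-- Tor amplitude `[a, b]` of a flat model with cohomology in degrees `≤ b`. -/
theorem ampD_of_flat_model (g : P ⟶ S) {K : DCoh.D P} {T : CochainComplex P.Modules ℤ} {a B b : ℤ}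
    (hv : DCoh.VanishesOutside T a B) (hfl : ∀ i, FlatMod.IsFlatOver g (T.X i))
    (e : DCoh.toD P T ≅ K) (hH : ∀ i, b < i → IsZero (DCoh.HD K i)) (z : P) : AmpD g a b K z :=
  amp_upper (B := B)
    (ampD_of_iso _ e ((ampD_rep _ (Iso.refl _) z).2
      (RelPCSchLib.hasTorAmplitude_of_flat_terms g T a B hv hfl z)))
    fun i hi => ((DerSch.stalkOver g z).map_isZero (hH i hi)).of_iso
      ((Groth.Agent.DerLib.ExactHomology.homologyIso (DerSch.stalkOver g z) i).app _)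

/-- The flatness locus over the base of a model term contains the point of tor amplitude. -/
theorem isFlatOverAt_of_amp (g : P ⟶ S) {T : CochainComplex P.Modules ℤ} {a b B : ℤ}
    (hv : DCoh.VanishesOutside T a B) (hfl : ∀ i, a < i → FlatMod.IsFlatOver g (T.X i)) {w : P}
    (hw : AmpD g a b (DCoh.toD P T) w) : FlatMod.IsFlatOverAt g (T.X a) w :=
  flat_X_of_amp ((DerSch.stalkCxOver g w).obj T) a b B
    (fun i hi => (DerSch.stalkOver g w).map_isZero (hv i (Or.inl hi)))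
    (fun i hi => (DerSch.stalkOver g w).map_isZero (hv i (Or.inr hi)))
    (fun i hi => hfl i hi w) ((ampD_rep _ (Iso.refl _) w).1 hw)

/-- A pseudo-coherent object of tor amplitude `[a, b]` over the base at a point, with cohomology in
`[a, b]`, is pseudo-coherent in every degree and of tor amplitude `[a, b]` near the point. -/
theorem exists_relPerfect_nhd (g : P ⟶ S) [Flat g] [LocallyOfFinitePresentation g] {K : DCoh.D P} {a b : ℤ}
    (hpc : DCoh.IsPseudoCoherentD (a - 1) K)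
    (hH : ∀ i, i < a ∨ b < i → IsZero (DCoh.HD K i)) {y : P} (hy : AmpD g a b K y) :
    ∃ W : P.Opens, y ∈ W ∧ (∀ m, DCoh.IsPseudoCoherentD m ((Groth.Agent.PerfLib.resD W.ι).obj K)) ∧
      ∀ p ∈ W, AmpD g a b K p := by
  obtain ⟨W₀, k, hk, w, T, B, rfl, hTv, hTflat, hTfp, ⟨eT⟩⟩ :=
    exists_trunc_model hpc (fun i hi => hH i (Or.inl hi)) y
  let g₀ := k ≫ g
  have hTfl : ∀ i, a < i → FlatMod.IsFlatOver g₀ (T.X i) := fun i hi => isFlatOver_of_isFlat g₀ (hTflat i hi)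
  have hw : AmpD g₀ a b (DCoh.toD _ T) w := ampD_of_iso _ eT.symm ((ampD_res_iff k g w a b K).2 hy)
  have hflat : FlatMod.IsFlatOverAt g₀ (T.X a) w := isFlatOverAt_of_amp g₀ hTv hTfl hw
  have hTFP : CohB1.IsFP (T.X a) := isFP_of_fpfree (hTfp a)
  haveI : Coh.IsQCoh (T.X a) := isQCoh_of_fp hTFP
  let O : W₀.Opens :=
    ⟨{z | FlatMod.IsFlatOverAt g₀ (T.X a) z}, RichLib.FlatLoci.isOpen_setOf_isFlatOverAt g₀ (T.X a) hTFP⟩
  let g₁ := O.ι ≫ g₀
  let T₁ := (Groth.Agent.PerfLib.resC O.ι).obj T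
  have hfl₁ : ∀ i, FlatMod.IsFlatOver g₁ (T₁.X i) := fun i => isFlatOver_res_of O.ι fun z => by
    rcases lt_trichotomy i a with hi | hi | hi
    · exact isFlatOver_of_isZero g₀ (hTv i (Or.inl hi)) _
    · exact hi ▸ z.2
    · exact hTfl i hi _
  have hv₁ : DCoh.VanishesOutside T₁ a B := fun i hi =>
    (Groth.Agent.PerfLib.res O.ι).map_isZero (hTv i hi)
  have hpc₁ : ∀ m, DCoh.IsPseudoCoherentD m (DCoh.toD _ T₁) :=
    isPC_of_flat_fp_terms g₁ T₁ B (fun i hi => hv₁ i (Or.inr hi)) hfl₁ fun i => (hTfp i).res O.ι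
  let l := O.ι ≫ k
  obtain ⟨cl⟩ := PerfLib.nonempty_resD_comp O.ι k K
  let el : DCoh.toD _ T₁ ≅ (Groth.Agent.PerfLib.resD l).obj K :=
    (Groth.Agent.PerfLib.resDQIso O.ι T).symm ≪≫ (Groth.Agent.PerfLib.resD O.ι).mapIso eT ≪≫ cl.symm
  have hamp : ∀ z : O, AmpD g a b K (l z) := fun z => by
    refine (ampD_res_iff l g z a b K).1 ?_
    exact (ampD_congr (Category.assoc O.ι k g).symm).1 (ampD_of_flat_model g₁ hv₁ hfl₁ el
      (fun i hi => ((Groth.Agent.PerfLib.res l).map_isZero (hH i (Or.inr hi))).of_iso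
        (Groth.Agent.PerfLib.resHDIso l K i)) z)
  refine ⟨l.opensRange, ⟨⟨w, hflat⟩, rfl⟩, fun m => ?_, ?_⟩
  · have hr : (Scheme.Hom.isoOpensRange l).inv ≫ l = l.opensRange.ι := Scheme.Hom.isoOpensRange_inv_comp l
    obtain ⟨c⟩ := PerfLib.nonempty_resD_comp (Scheme.Hom.isoOpensRange l).inv l K
    obtain ⟨d⟩ := PerfLib.nonempty_resD_congr hr K
    exact PerfLib.isPC_of_iso (c.symm ≪≫ d)
      (PerfLib.isPC_res (PerfLib.isPC_of_iso el (hpc₁ m)) (Scheme.Hom.isoOpensRange l).inv)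
  · rintro p ⟨z, rfl⟩
    exact hamp z

/-- A relatively `(a-1)`-pseudo-coherent object of tor amplitude `[a, b]` at a point of an affine chart,
with cohomology in `[a, b]`, is relatively perfect near the point. -/
theorem exists_relPerfect_nhd_chart (f : X ⟶ S) [LocallyOfFiniteType f] (F : CochainComplex X.Modules ℤ)
    {a b : ℤ} (hrel : DerSch.IsPseudoCoherentRel f (a - 1) (DCoh.toD X F))
    (hH : ∀ i, i < a ∨ b < i → IsZero (DCoh.HD (DCoh.toD X F) i)) {x : X}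
    (hx : DerSch.HasTorAmplitudeAt f a b F x) :
    ∃ (X' : Scheme.{u}) (k : X' ⟶ X) (_ : IsOpenImmersion k), x ∈ Set.range k.base ∧
      (∀ m, DerSch.IsPseudoCoherentRel (k ≫ f) m ((Groth.Agent.PerfLib.resD k).obj (DCoh.toD X F))) ∧
      ∀ z, DerSch.HasTorAmplitudeAt f a b F (k z) := by
  obtain ⟨_, ⟨(V : S.Opens), hV, rfl⟩, hxV, -⟩ :=
    S.isBasis_affineOpens.exists_subset_of_mem_open (Set.mem_univ (f x)) isOpen_univ
  obtain ⟨_, ⟨(U : X.Opens), hU, rfl⟩, hxU, hUV⟩ :=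
    X.isBasis_affineOpens.exists_subset_of_mem_open (show x ∈ f ⁻¹ᵁ V from hxV) (f ⁻¹ᵁ V).2
  obtain ⟨n, φ, hφ⟩ := RelPCSchLib.exists_isChart f hU hV hUV
  let i := RelPCSchLib.imm U φ
  haveI : IsClosedImmersion i := RelPCSchLib.isClosedImmersion_imm hU hφ.1
  let C : Γ(S, V) →+* MvPolynomial (Fin n) Γ(S, V) := MvPolynomial.C
  haveI : Smooth (Spec.map (CommRingCat.ofHom C)) := by
    rw [HasRingHomProperty.Spec_iff (P := @Smooth)]
    change RingHom.Smooth (algebraMap Γ(S, V) (MvPolynomial (Fin n) Γ(S, V)))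
    rw [RingHom.smooth_algebraMap]
    exact ⟨inferInstance, inferInstance⟩
  haveI : IsOpenImmersion hV.fromSpec := inferInstance
  let g : Spec (CommRingCat.of (MvPolynomial (Fin n) Γ(S, V))) ⟶ S :=
    Spec.map (CommRingCat.ofHom C) ≫ hV.fromSpec
  haveI : Smooth g := by unfold g; infer_instance
  have hig : i ≫ g = U.ι ≫ f := by
    have h1 : CommRingCat.ofHom C ≫ CommRingCat.ofHom φ = f.appLE V U hUV := CommRingCat.hom_ext hφ.2
    simp only [i, g, RelPCSchLib.imm, Category.assoc]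
    rw [← Spec.map_comp_assoc, h1, IsAffineOpen.SpecMap_appLE_fromSpec f hV hU hUV,
      IsAffineOpen.toSpecΓ_fromSpec_assoc]
  let FU := (Groth.Agent.PerfLib.resC U.ι).obj F
  let eU : (Groth.Agent.PerfLib.resD U.ι).obj (DCoh.toD X F) ≅ DCoh.toD _ FU :=
    Groth.Agent.PerfLib.resDQIso U.ι F
  have hrel' : DerSch.IsPseudoCoherentRel (i ≫ g) (a - 1) (DCoh.toD _ FU) := by
    rw [hig]
    exact RelPCSchLib.rel_of_iso _ eU (RelPCSchLib.rel_res U.ι f hrel)
  obtain ⟨ep⟩ := ImmPCLib.pushD_toD i FU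
  let K := (pushD i).obj (DCoh.toD _ FU)
  have hpc : DCoh.IsPseudoCoherentD (a - 1) K :=
    PerfLib.isPC_of_iso ep.symm ((RelPCSchLib.rel_immersion_comp_iff i g _ FU).1.1 hrel')
  have hHK : ∀ q, q < a ∨ b < q → IsZero (DCoh.HD K q) := fun q hq =>
    ((Scheme.Modules.pushforward i).map_isZero
      ((((Groth.Agent.PerfLib.res U.ι).map_isZero (hH q hq)).of_iso
        (Groth.Agent.PerfLib.resHDIso U.ι _ q)).of_iso
          ((DerivedCategory.homologyFunctor _ q).mapIso eU.symm))).of_iso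
      ((Groth.Agent.DerLib.ExactHomology.homologyIso (Scheme.Modules.pushforward i) q).app _)
  let u₀ : (U : Scheme.{u}) := ⟨x, hxU⟩
  have hu : DerSch.HasTorAmplitudeAt (i ≫ g) a b FU u₀ := by
    rw [hig]
    exact (ampAt_restrict_iff f U.ι u₀ a b F).2 hx
  obtain ⟨W, hiW, hWpc, hWamp⟩ := exists_relPerfect_nhd g hpc hHK (y := i u₀)
    ((ampD_rep g ep.symm _).2 ((ampAt_push_iff i g u₀ a b FU).2 hu))
  let k := (i ⁻¹ᵁ W).ι ≫ U.ι
  refine ⟨_, k, inferInstance, ⟨⟨u₀, hiW⟩, rfl⟩, fun m => ?_, fun z => ?_⟩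
  · obtain ⟨c⟩ := ImmPCLib.nonempty_resPush i W (DCoh.toD _ FU)
    haveI : Smooth (W.ι ≫ g) := inferInstance
    obtain ⟨cz⟩ := ImmPCLib.pushD_toD (i ∣_ W) ((Groth.Agent.PerfLib.resC (i ⁻¹ᵁ W).ι).obj FU)
    have h2 := (RelPCSchLib.rel_immersion_comp_iff (i ∣_ W) (W.ι ≫ g) m
      ((Groth.Agent.PerfLib.resC (i ⁻¹ᵁ W).ι).obj FU)).1.2
      (PerfLib.isPC_of_iso (c ≪≫ (pushD (i ∣_ W)).mapIso
        (Groth.Agent.PerfLib.resDQIso (i ⁻¹ᵁ W).ι FU) ≪≫ cz) (hWpc m))
    have he : (i ∣_ W) ≫ W.ι ≫ g = k ≫ f := by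
      rw [morphismRestrict_ι_assoc, hig, Category.assoc]
    rw [he] at h2
    obtain ⟨d⟩ := PerfLib.nonempty_resD_comp (i ⁻¹ᵁ W).ι U.ι (DCoh.toD X F)
    exact RelPCSchLib.rel_of_iso _ ((d ≪≫ (Groth.Agent.PerfLib.resD (i ⁻¹ᵁ W).ι).mapIso eU ≪≫
      Groth.Agent.PerfLib.resDQIso (i ⁻¹ᵁ W).ι FU).symm) h2
  · have h1 : DerSch.HasTorAmplitudeAt (i ≫ g) a b FU z.1 :=
      (ampAt_push_iff i g z.1 a b FU).1 ((ampD_rep g ep.symm _).1 (hWamp _ z.2))
    rw [hig] at h1
    exact (ampAt_restrict_iff f U.ι z.1 a b F).1 h1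

end Groth.Agent.RelFlatLib
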