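import Groth.Agent.RelFlatLib.Basic
import Groth.Agent.DRingLib.AmplitudeTri

/-!
# Relative tor amplitude of objects of the derived category
-/

set_option autoImplicit false
set_option linter.style.haveILetI false
set_option backward.isDefEq.respectTransparency false
set_option backward.isDefEq.respectTransparency.types false

universe u

open CategoryTheory CategoryTheory.Limits AlgebraicGeometry CategoryTheory.Pretriangulated
open scoped ZeroObject

attribute [local instance] HasDerivedCategory.standard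

namespace Groth.Agent.RelFlatLib

variable {X Y : Scheme.{u}} (f : X ⟶ Y)

/-- Tor amplitude of the stalk at `x` over the local ring of the base. -/
def AmpD (a b : ℤ) (K : DCoh.D X) (x : X) : Prop :=
  DRing.HasTorAmplitudeIn (Y.presheaf.stalk (f.base x)) a b
    ((DerSch.stalkOver f x).mapDerivedCategory.obj K)

theorem ampD_of_iso {a b : ℤ} {K L : DCoh.D X} {x : X} (e : K ≅ L) (h : AmpD f a b K x) :
    AmpD f a b L x :=
  DRingLib.hasTorAmplitudeIn_of_iso ((DerSch.stalkOver f x).mapDerivedCategory.mapIso e) h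

theorem ampD_mono {a a' b b' : ℤ} (ha : a' ≤ a) (hb : b ≤ b') {K : DCoh.D X} {x : X}
    (h : AmpD f a b K x) : AmpD f a' b' K x :=
  DRingLib.hasTorAmplitudeIn_mono ha hb h

theorem ampD_rep {a b : ℤ} {K : DCoh.D X} {F : CochainComplex X.Modules ℤ} (e : DCoh.toD X F ≅ K)
    (x : X) : AmpD f a b K x ↔ DerSch.HasTorAmplitudeAt f a b F x :=
  ⟨fun h => DRingLib.hasTorAmplitudeIn_of_iso ((DerSch.stalkOver f x).mapDerivedCategoryFactors.app F)
      (ampD_of_iso f e.symm h),
    fun h => ampD_of_iso f e (DRingLib.hasTorAmplitudeIn_of_iso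
      ((DerSch.stalkOver f x).mapDerivedCategoryFactors.app F).symm h)⟩

theorem loc_iff_ampD [Flat f] {K : DCoh.D X} :
    DCoh.LocHasFiniteRelTorDim f K ↔
      ∀ x : X, ∃ (V : X.Opens) (a b : ℤ), x ∈ V ∧ ∀ x' : X, x' ∈ V → AmpD f a b K x' := by
  obtain ⟨F, ⟨e⟩⟩ : ∃ F : CochainComplex X.Modules ℤ, Nonempty (DCoh.toD X F ≅ K) :=
    ⟨_, ⟨DerivedCategory.Q.objObjPreimageIso K⟩⟩
  rw [loc_iff f e]
  exact forall_congr' fun x => exists_congr fun V => exists_congr fun a => exists_congr fun b =>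
    and_congr_right' (forall₂_congr fun x' _ => (ampD_rep f e x').symm)

theorem loc_zero [Flat f] {K : DCoh.D X} (h : IsZero K) : DCoh.LocHasFiniteRelTorDim f K :=
  (loc_iff_ampD f).2 fun _ => ⟨⊤, 0, 0, trivial, fun x' _ =>
    ⟨0, fun i _ => (HomologicalComplex.eval _ _ i).map_isZero (isZero_zero _), fun i => by
      haveI := ModuleCat.subsingleton_of_isZero ((HomologicalComplex.eval (ModuleCat.{u}
        (Y.presheaf.stalk (f.base x'))) (ComplexShape.up ℤ) i).map_isZero (isZero_zero _))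
      exact inferInstanceAs (Module.Flat _ ((HomologicalComplex.eval (ModuleCat.{u}
        (Y.presheaf.stalk (f.base x'))) (ComplexShape.up ℤ) i).obj 0)),
      ⟨(DerivedCategory.Q.map_isZero (isZero_zero _)).iso
        ((DerSch.stalkOver f x').mapDerivedCategory.map_isZero h)⟩⟩⟩

theorem loc_shift [Flat f] {K : DCoh.D X} (h : DCoh.LocHasFiniteRelTorDim f K) (n : ℤ) :
    DCoh.LocHasFiniteRelTorDim f (K⟦n⟧) :=
  (loc_iff_ampD f).2 fun x => by
    obtain ⟨V, a, b, hx, hV⟩ := (loc_iff_ampD f).1 h x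
    exact ⟨V, a - n, b - n, hx, fun x' hx' => DRingLib.hasTorAmplitudeIn_of_iso
      (((DerSch.stalkOver f x').mapDerivedCategory.commShiftIso n).app K).symm
      (DRingLib.hasTorAmplitudeIn_shift (hV x' hx') n)⟩

theorem loc_obj₂ [Flat f] (T : Triangle (DCoh.D X)) (hT : T ∈ distTriang (DCoh.D X))
    (h₁ : DCoh.LocHasFiniteRelTorDim f T.obj₁) (h₃ : DCoh.LocHasFiniteRelTorDim f T.obj₃) :
    DCoh.LocHasFiniteRelTorDim f T.obj₂ :=
  (loc_iff_ampD f).2 fun x => by
    obtain ⟨V₁, a₁, b₁, hx₁, hV₁⟩ := (loc_iff_ampD f).1 h₁ x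
    obtain ⟨V₃, a₃, b₃, hx₃, hV₃⟩ := (loc_iff_ampD f).1 h₃ x
    exact ⟨V₁ ⊓ V₃, min a₁ a₃, max b₁ b₃, ⟨hx₁, hx₃⟩, fun x' hx' =>
      DRingLib.hasTorAmplitudeIn_obj₂ _ ((DerSch.stalkOver f x').mapDerivedCategory.map_distinguished T hT)
        (ampD_mono f (min_le_left _ _) (le_max_left _ _) (hV₁ x' hx'.1))
        (ampD_mono f (min_le_right _ _) (le_max_right _ _) (hV₃ x' hx'.2))⟩

theorem loc_retract [Flat f] {K L : DCoh.D X} (r : Retract K L) (h : DCoh.LocHasFiniteRelTorDim f L) :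
    DCoh.LocHasFiniteRelTorDim f K :=
  (loc_iff_ampD f).2 fun x => by
    obtain ⟨V, a, b, hx, hV⟩ := (loc_iff_ampD f).1 h x
    exact ⟨V, a, b, hx, fun x' hx' => DRingLib.hasTorAmplitudeIn_of_retract
      ((r.map (DerSch.stalkOver f x').mapDerivedCategory).i) _ (r.map _).retract (hV x' hx')⟩

end Groth.Agent.RelFlatLib
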