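import Groth.Agent.S2107
import Groth.Agent.TwoTermLib.KFlatTrunc

/-!
# Flat cokernels from the closed fibre
-/

set_option autoImplicit false

universe u

namespace Groth.Agent.RelFlatLib

/-- A cokernel is flat over the base if the complex is exact modulo the maximal ideal. -/
theorem flat_coker_of_mod {A B : Type u} [CommRing A] [IsLocalRing A] [CommRing B] [IsLocalRing B]
    [Algebra A B] [IsLocalHom (algebraMap A B)] [Module.Flat A B]
    (hS : CAlgX.IsEssFinitePresentation A B) (J : Ideal B)
    (hJ : J = (IsLocalRing.maximalIdeal A).map (algebraMap A B))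
    {L M N : Type u} [AddCommGroup L] [Module B L] [Module.Finite B L]
    [AddCommGroup M] [Module B M] [Module.Finite B M] [Module.Free B M] [Module A M] [IsScalarTower A B M]
    [AddCommGroup N] [Module B N] [Module.Finite B N] [Module.Free B N] [Module A N] [IsScalarTower A B N]
    (p : L →ₗ[B] M) (q : M →ₗ[B] N) (hpq : ∀ x, q (p x) = 0)
    (hex : ∀ z, q z ∈ J • (⊤ : Submodule B N) → z ∈ LinearMap.range p ⊔ J • (⊤ : Submodule B M)) :
    Module.Flat A (M ⧸ LinearMap.range p) := by
  have hle : LinearMap.range p ≤ LinearMap.ker q := by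
    rintro _ ⟨x, rfl⟩
    exact hpq x
  let u : (M ⧸ LinearMap.range p) →ₗ[B] N := (LinearMap.range p).liftQ q hle
  haveI : Module.FinitePresentation B M := Module.finitePresentation_of_projective B M
  haveI : Module.FinitePresentation B (M ⧸ LinearMap.range p) :=
    Module.finitePresentation_of_surjective
    (LinearMap.range p).mkQ (Submodule.mkQ_surjective _) (by
      rw [Submodule.ker_mkQ, LinearMap.range_eq_map]
      exact Module.Finite.fg_top.map p)
  haveI : Module.FinitePresentation B N := Module.finitePresentation_of_projective B N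
  haveI : Module.Flat A N := Module.Flat.trans A B N
  have key : ∀ x, u x ∈ J • (⊤ : Submodule B N) → x ∈ J • (⊤ : Submodule B (M ⧸ LinearMap.range p)) :=
    fun x hx => by
      obtain ⟨z, rfl⟩ := Submodule.Quotient.mk_surjective _ x
      obtain ⟨y, hy, w, hw, rfl⟩ := Submodule.mem_sup.1 (hex z hx)
      rw [Submodule.Quotient.mk_add, (Submodule.Quotient.mk_eq_zero _).2 hy, zero_add]
      have := Submodule.mem_map_of_mem (f := (LinearMap.range p).mkQ) hw
      rw [Submodule.map_smul''] at this
      exact Submodule.smul_mono le_rfl le_top this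
  subst hJ
  obtain ⟨hinj, hflat⟩ := Groth.Agent.S2107.result hS u key
  haveI := hflat
  exact TwoTermLib.KFlatTrunc.flat_of_exact (u.restrictScalars A)
    ((LinearMap.range u).mkQ.restrictScalars A) hinj
    (fun x => by simp [LinearMap.mem_range]) (Submodule.mkQ_surjective _)

open scoped TensorProduct in
/-- Injectivity with flat cokernel is injectivity on the closed fibre. -/
theorem injective_and_flat_coker_iff {A B M N : Type u} [CommRing A] [CommRing B] [IsLocalRing A]
    [IsLocalRing B] [Algebra A B] [IsLocalHom (algebraMap A B)] (hS : CAlgX.IsEssFinitePresentation A B)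
    [AddCommGroup M] [Module B M] [Module A M] [IsScalarTower A B M] [Module.FinitePresentation B M]
    [AddCommGroup N] [Module B N] [Module A N] [IsScalarTower A B N] [Module.FinitePresentation B N]
    [Module.Flat A N] (u : M →ₗ[B] N) :
    (Function.Injective u ∧ Module.Flat A (N ⧸ LinearMap.range u)) ↔
      ∀ x : M, u x ∈ (IsLocalRing.maximalIdeal A).map (algebraMap A B) • (⊤ : Submodule B N) →
        x ∈ (IsLocalRing.maximalIdeal A).map (algebraMap A B) • (⊤ : Submodule B M) := by
  refine ⟨fun ⟨hinj, hflat⟩ x hx => ?_, Groth.Agent.S2107.result hS u⟩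
  have hm : ∀ (P : Type u) [AddCommGroup P] [Module A P] [Module B P] [IsScalarTower A B P] (p : P),
      p ∈ (IsLocalRing.maximalIdeal A).map (algebraMap A B) • (⊤ : Submodule B P) ↔
        p ∈ IsLocalRing.maximalIdeal A • (⊤ : Submodule A P) := fun P _ _ _ _ p => by
    have e := Ideal.smul_restrictScalars (IsLocalRing.maximalIdeal A) (⊤ : Submodule B P)
    rw [Submodule.restrictScalars_top] at e
    rw [← e]
    exact Submodule.restrictScalars_mem _ _ _ |>.symm
  haveI := hflat
  let κ := A ⧸ IsLocalRing.maximalIdeal A
  have hi : Function.Injective ((u.restrictScalars A).lTensor κ) :=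
    LinearMap.lTensor_injective_of_exact_of_flat ((LinearMap.range u).mkQ.restrictScalars A)
      (Submodule.mkQ_surjective _) (u.restrictScalars A) hinj
      (fun x => by simp [LinearMap.mem_range]) κ
  have hq : ∀ (P : Type u) [AddCommGroup P] [Module A P] (p : P),
      (1 : κ) ⊗ₜ[A] p = 0 ↔ p ∈ IsLocalRing.maximalIdeal A • (⊤ : Submodule A P) := fun P _ _ p => by
    rw [← (TensorProduct.quotTensorEquivQuotSMul P (IsLocalRing.maximalIdeal A)).map_eq_zero_iff,
      ← map_one (Ideal.Quotient.mk (IsLocalRing.maximalIdeal A)),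
      TensorProduct.quotTensorEquivQuotSMul_mk_tmul, one_smul, Submodule.Quotient.mk_eq_zero]
  rw [hm M, ← hq]
  refine hi ?_
  rw [LinearMap.lTensor_tmul, map_zero]
  exact (hq _ _).2 ((hm N _).1 hx)

end Groth.Agent.RelFlatLib
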