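import Groth.Agent.RelFlatLib.LpullStalk
import Groth.Agent.DRingLib.PCohMore
import Groth.Agent.DRingLib.FlatBC
import Groth.Agent.RelFlatLib.FibreCoker

/-!
# Tor amplitude over a local base and the closed fibre
-/

set_option autoImplicit false
set_option linter.style.haveILetI false
set_option backward.isDefEq.respectTransparency false
set_option backward.isDefEq.respectTransparency.types false

universe u

open CategoryTheory CategoryTheory.Limits HomologicalComplex MonoidalCategory
open scoped TensorProduct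

attribute [local instance] HasDerivedCategory.standard

namespace Groth.Agent.RelFlatLib

open KFlatLib (tT tMap)
open TwoTermLib.RelAmp (resCx)

variable {A B C : Type u} [CommRing A] [IsLocalRing A] [CommRing B] [CommRing C]
  (φ : A →+* B) (ψ : B →+* C)

/-- `B ⊗_A κ = C` when `C = B / 𝔪 B`. -/
theorem nonempty_fibreIso (hs : Function.Surjective ψ)
    (hk : RingHom.ker ψ = (IsLocalRing.maximalIdeal A).map φ) :
    Nonempty ((ModuleCat.extendScalars.{u, u, u} φ).obj (ModuleCat.of A (IsLocalRing.ResidueField A)) ≅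
      (ModuleCat.restrictScalars.{u} ψ).obj (𝟙_ (ModuleCat.{u} C))) := by
  letI := φ.toAlgebra
  letI := ψ.toAlgebra
  letI : Algebra A C := (ψ.comp φ).toAlgebra
  haveI : IsScalarTower A B C := IsScalarTower.of_algebraMap_eq fun _ => rfl
  let κ := IsLocalRing.ResidueField A
  have hm : ∀ a ∈ IsLocalRing.maximalIdeal A, algebraMap A C a = 0 := fun a ha => by
    show ψ (φ a) = 0
    rw [← RingHom.mem_ker, hk]
    exact Ideal.mem_map_of_mem φ ha
  let h₁ : κ →ₐ[A] C := Ideal.Quotient.liftₐ _ (Algebra.ofId A C) hm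
  let g : B ⊗[A] κ →ₐ[B] C := Algebra.TensorProduct.lift (Algebra.ofId B C) h₁ fun _ _ => mul_comm _ _
  have hg : ∀ b, g (b ⊗ₜ 1) = ψ b := fun b => by
    simp only [g, Algebra.TensorProduct.lift_tmul, map_one, mul_one]
    rfl
  have h1 : Function.Surjective (Algebra.TensorProduct.includeLeftRingHom : B →+* B ⊗[A] κ) := fun z => by
    induction z using TensorProduct.induction_on with
    | zero => exact ⟨0, map_zero _⟩
    | add x y hx hy =>
      obtain ⟨⟨b, rfl⟩, ⟨c, rfl⟩⟩ := hx, hy
      exact ⟨b + c, map_add _ _ _⟩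
    | tmul b k =>
      obtain ⟨a, rfl⟩ := IsLocalRing.residue_surjective k
      refine ⟨a • b, ?_⟩
      show (a • b) ⊗ₜ[A] (1 : κ) = b ⊗ₜ IsLocalRing.residue A a
      rw [TensorProduct.smul_tmul, Algebra.smul_def, mul_one]
      rfl
  have hbij : Function.Bijective g := by
    refine ⟨(injective_iff_map_eq_zero g).2 fun z hz => ?_, fun c => ?_⟩
    · obtain ⟨b, rfl⟩ := h1 z
      have hb : b ∈ (IsLocalRing.maximalIdeal A).map φ := by
        rw [← hk, RingHom.mem_ker, ← hg]
        exact hz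
      refine (Ideal.map_le_iff_le_comap.2 ?_ hb :
        b ∈ RingHom.ker (Algebra.TensorProduct.includeLeftRingHom : B →+* B ⊗[A] κ))
      intro a ha
      show φ a ⊗ₜ[A] (1 : κ) = 0
      rw [show φ a = a • (1 : B) from Algebra.algebraMap_eq_smul_one a, TensorProduct.smul_tmul]
      rw [Algebra.smul_def, mul_one, show algebraMap A κ a = 0 from
        Ideal.Quotient.eq_zero_iff_mem.2 ha, TensorProduct.tmul_zero]
    · obtain ⟨b, rfl⟩ := hs c
      exact ⟨b ⊗ₜ 1, hg b⟩
  exact ⟨LinearEquiv.toModuleIso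
    (LinearEquiv.ofBijective g.toLinearMap hbij : (B ⊗[A] κ) ≃ₗ[B] C)⟩

/-- Flat base change preserves quasi-isomorphisms. -/
theorem quasiIso_extCx_flat {R R' : Type u} [CommRing R] [CommRing R'] (θ : R →+* R') (hθ : θ.Flat)
    {K L : CochainComplex (ModuleCat.{u} R) ℤ} (g : K ⟶ L) [QuasiIso g] :
    QuasiIso ((DRingLib.extCx θ).map g) := by
  haveI : PreservesFiniteLimits (ModuleCat.extendScalars.{u, u, u} θ) :=
    ModuleCat.preservesFiniteLimits_extendScalars_of_flat hθ
  haveI : PreservesColimitsOfSize.{u, u} (ModuleCat.extendScalars.{u, u, u} θ) :=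
    (ModuleCat.extendRestrictScalarsAdj.{u, u, u} θ).leftAdjoint_preservesColimits
  haveI : PreservesFiniteColimits (ModuleCat.extendScalars.{u, u, u} θ) :=
    PreservesColimitsOfSize.preservesFiniteColimits.{u, u} _
  exact inferInstanceAs
    (QuasiIso (((ModuleCat.extendScalars.{u, u, u} θ).mapHomologicalComplex (ComplexShape.up ℤ)).map g))

/-- The closed fibre of a complex of tor amplitude `[a, b]` over the base has no cohomology outside `[a, b]`. -/
theorem isZero_fibre_of_amp (hφ : φ.Flat) (hs : Function.Surjective ψ)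
    (hk : RingHom.ker ψ = (IsLocalRing.maximalIdeal A).map φ)
    {P : CochainComplex (ModuleCat.{u} B) ℤ} (hP : DRing.IsKFlat B P) {a b : ℤ}
    (h : DRing.HasTorAmplitudeIn A a b (DerivedCategory.Q.obj ((resCx φ).obj P)))
    (i : ℤ) (hi : i < a ∨ b < i) : IsZero (((DRingLib.extCx ψ).obj P).homology i) := by
  let κ := ModuleCat.of A (IsLocalRing.ResidueField A)
  let Q := (projectiveResolution κ).cochainComplex
  let π := (projectiveResolution κ).π'
  have hz := TwoTermLib.RelAmp.isZero_of_hasTorAmplitudeIn φ P h κ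
    (DRingLib.isKFlat_projectiveResolution (projectiveResolution κ)) π i hi
  haveI : PreservesFiniteLimits (ModuleCat.extendScalars.{u, u, u} φ) :=
    ModuleCat.preservesFiniteLimits_extendScalars_of_flat hφ
  let X := (DRingLib.extCx φ).map π
  haveI : QuasiIso X := quasiIso_extCx_flat φ hφ π
  let H := HomologicalComplex.homologyFunctor (ModuleCat.{u} B) (ComplexShape.up ℤ) i
  have q := (KFlatLib.quasiIso_tMap_left hP X).quasiIsoAt i
  rw [quasiIsoAt_iff_isIso_homologyMap] at q
  obtain ⟨c⟩ := nonempty_fibreIso φ ψ hs hk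
  let N := (ModuleCat.restrictScalars.{u} ψ).obj (𝟙_ (ModuleCat.{u} C))
  let e : (DRingLib.extCx φ).obj ((single (ModuleCat.{u} A) (ComplexShape.up ℤ) 0).obj κ) ≅
      (single (ModuleCat.{u} B) (ComplexShape.up ℤ) 0).obj N :=
    (singleMapHomologicalComplex (ModuleCat.extendScalars.{u, u, u} φ) (ComplexShape.up ℤ) 0).app κ ≪≫
      (single _ (ComplexShape.up ℤ) 0).mapIso c
  obtain ⟨e₁⟩ := DRingLib.nonempty_singleTensorIso N P
  let e₂ : ((tensorLeft N).mapHomologicalComplex (ComplexShape.up ℤ)).obj P ≅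
      (resCx ψ).obj ((DRingLib.extCx ψ).obj P) :=
    Hom.isoOfComponents (fun n => (KFlatLib.tensorLeftExtIso ψ).app (P.X n))
      (fun j k _ => ((KFlatLib.tensorLeftExtIso ψ).hom.naturality (P.d j k)).symm)
  rw [← TwoTermLib.RelAmp.isZero_homology_resCx_iff ψ]
  exact (hz.of_iso (@asIso _ _ _ _ _ q).symm).of_iso
    (H.mapIso (e₂.symm ≪≫ e₁.symm) ≪≫
      H.mapIso ((KFlatLib.tensorFlipIso ((single (ModuleCat.{u} B) (ComplexShape.up ℤ) 0).obj N) P).symm ≪≫
        MonoidalCategory.tensorIso (Iso.refl P) e.symm))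

/-- Exactness of the closed fibre of a complex, on elements. -/
theorem fibre_exact (E : CochainComplex (ModuleCat.{u} B) ℤ) {a : ℤ} (hs : Function.Surjective ψ)
    (h : IsZero (((DRingLib.extCx ψ).obj E).homology a)) (z : E.X a)
    (hz : (E.d a (a + 1)).hom z ∈ RingHom.ker ψ • (⊤ : Submodule B (E.X (a + 1)))) :
    z ∈ LinearMap.range (E.d (a - 1) a).hom ⊔ RingHom.ker ψ • (⊤ : Submodule B (E.X a)) := by
  letI := ψ.toAlgebra
  let G := (DRingLib.extCx ψ).obj E
  have hex : (G.sc' (a - 1) a (a + 1)).Exact :=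
    (exactAt_iff' G (a - 1) a (a + 1) (by simp) (by simp)).1 ((exactAt_iff_isZero_homology G a).2 h)
  rw [ShortComplex.moduleCat_exact_iff] at hex
  have hd : ∀ (i j : ℤ) (x : E.X i), (G.d i j).hom ((1 : C) ⊗ₜ[B] x) = (1 : C) ⊗ₜ[B] (E.d i j).hom x :=
    fun i j x => rfl
  have h0 : ∀ {k : ℤ} (x : E.X k), x ∈ RingHom.ker ψ • (⊤ : Submodule B (E.X k)) →
      (1 : C) ⊗ₜ[B] x = 0 := fun {k} x hx => by
    refine Submodule.smul_induction_on hx (fun r hr y _ => ?_) fun y y' hy hy' => ?_
    · rw [← TensorProduct.smul_tmul, Algebra.smul_def]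
      rw [show algebraMap B C r = 0 from hr, zero_mul, TensorProduct.zero_tmul]
    · rw [TensorProduct.tmul_add, hy, hy', add_zero]
  obtain ⟨w, hw⟩ := hex ((1 : C) ⊗ₜ[B] z) ((hd a (a + 1) z).trans (h0 _ hz))
  obtain ⟨x, rfl⟩ := TensorProduct.mk_surjective B (E.X (a - 1)) C hs w
  have hw' : (1 : C) ⊗ₜ[B] (z - (E.d (a - 1) a).hom x) = 0 := by
    rw [TensorProduct.tmul_sub, sub_eq_zero]
    exact (hw.symm.trans (hd (a - 1) a x))
  let q : (B ⧸ RingHom.ker (algebraMap B C)) ≃ₐ[B] C :=
    Ideal.quotientKerAlgEquivOfSurjective (f := Algebra.ofId B C) hs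
  let e : C ⊗[B] E.X a ≃ₗ[B] E.X a ⧸ (RingHom.ker (algebraMap B C) • (⊤ : Submodule B (E.X a))) :=
    (TensorProduct.congr q.symm.toLinearEquiv (LinearEquiv.refl B (E.X a))).trans
      (TensorProduct.quotTensorEquivQuotSMul (E.X a) (RingHom.ker (algebraMap B C)))
  have he : ∀ y : E.X a, e ((1 : C) ⊗ₜ y) = Submodule.Quotient.mk y := fun y => by
    show TensorProduct.quotTensorEquivQuotSMul (E.X a) (RingHom.ker (algebraMap B C)) (q.symm 1 ⊗ₜ y) = _
    rw [map_one q.symm, ← map_one (Ideal.Quotient.mk (RingHom.ker (algebraMap B C)))]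
    exact (TensorProduct.quotTensorEquivQuotSMul_mk_tmul _ _ _).trans (by rw [one_smul])
  have hy : z - (E.d (a - 1) a).hom x ∈ RingHom.ker ψ • (⊤ : Submodule B (E.X a)) := by
    refine (Submodule.Quotient.mk_eq_zero _).1 ((he _).symm.trans ?_)
    rw [hw', map_zero]
  rw [← add_sub_cancel ((E.d (a - 1) a).hom x) z]
  exact Submodule.add_mem _ (Submodule.mem_sup_left ⟨x, rfl⟩) (Submodule.mem_sup_right hy)

variable [IsLocalRing B] [IsLocalHom φ]

/-- Finite tor amplitude over the base from boundedness below on the closed fibre. -/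
theorem exists_amp_of_fibre (hφ : φ.Flat)
    (hS : letI := φ.toAlgebra; CAlgX.IsEssFinitePresentation A B) (hs : Function.Surjective ψ)
    (hk : RingHom.ker ψ = (IsLocalRing.maximalIdeal A).map φ)
    {P : CochainComplex (ModuleCat.{u} B) ℤ} (hP : DRing.IsKFlat B P)
    (hpc : ∀ m, DRing.IsPseudoCoherent B m (DerivedCategory.Q.obj P)) {a₀ a₁ : ℤ}
    (h₀ : ∀ i, i < a₀ → IsZero (P.homology i))
    (h₁ : ∀ i, i < a₁ → IsZero (((DRingLib.extCx ψ).obj P).homology i)) :
    ∃ a b : ℤ, DRing.HasTorAmplitudeIn A a b (DerivedCategory.Q.obj ((resCx φ).obj P)) := by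
  obtain ⟨E, b, hEb, hEf, ⟨eE⟩⟩ := DRingLib.isPseudoCoherent'_of_forall hpc
  haveI := fun i => (hEf i).1
  haveI := fun i => (hEf i).2
  haveI := DRingLib.isKProjective_of_free E b hEb (fun i => (hEf i).2)
  obtain ⟨g, hg⟩ := DRingLib.exists_qis_of_iso E P eE
  let a := min a₀ a₁ - 1
  have hH : ∀ i, i < a₀ → IsZero (E.homology i) := fun i hi => by
    have : IsIso (homologyMap g i) := (quasiIsoAt_iff_isIso_homologyMap _ _).mp (hg.quasiIsoAt i)
    exact (h₀ i hi).of_iso (asIso (homologyMap g i))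
  have hC : IsZero (((DRingLib.extCx ψ).obj E).homology a) := by
    haveI : QuasiIso ((DRingLib.extCx ψ).map g) :=
      KFlatLib.quasiIso_extend ψ (DRingLib.isKFlat_of_free E b hEb (fun i => (hEf i).2)) hP g
    have : IsIso (homologyMap ((DRingLib.extCx ψ).map g) a) :=
      (quasiIsoAt_iff_isIso_homologyMap _ _).mp (QuasiIso.quasiIsoAt a)
    exact (h₁ a (by omega)).of_iso (asIso (homologyMap ((DRingLib.extCx ψ).map g) a))
  haveI : E.IsGE a := (CochainComplex.isGE_iff E a).2 fun i hi =>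
    (exactAt_iff_isZero_homology _ i).2 (hH i (by omega))
  haveI : QuasiIso (E.πTruncGE a) := (CochainComplex.quasiIso_πTruncGE_iff E a).mpr inferInstance
  letI := φ.toAlgebra
  haveI : IsLocalHom (algebraMap A B) := ‹IsLocalHom φ›
  haveI : Module.Flat A B := hφ
  letI : ∀ M : ModuleCat.{u} B, Module A M := fun M => Module.compHom M φ
  haveI : ∀ M : ModuleCat.{u} B, IsScalarTower A B M := fun M =>
    IsScalarTower.of_algebraMap_smul fun _ _ => rfl
  have hfree : ∀ i, Module.Flat A (E.X i) := fun i => Module.Flat.trans A B (E.X i)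
  let M := E.X a ⧸ LinearMap.range (E.d (a - 1) a).hom
  haveI : Module.Flat A M := flat_coker_of_mod hS (RingHom.ker ψ) hk (E.d (a - 1) a).hom (E.d a (a + 1)).hom
    (fun x => congrArg (fun q => q.hom x) (E.d_comp_d (a - 1) a (a + 1))) (fibre_exact ψ E hs hC)
  let F := E.truncGE a
  refine ⟨a, b, (resCx φ).obj F, fun i hi => (ModuleCat.restrictScalars.{u} φ).map_isZero
    (DRingLib.vanishesOutside_truncGE hEb a i hi), fun i => ?_, ⟨?_⟩⟩
  · show Module.Flat A (F.X i)
    rcases lt_trichotomy i a with hi | hi | hi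
    · haveI := ModuleCat.subsingleton_of_isZero (CochainComplex.isZero_of_isStrictlyGE F a i hi)
      infer_instance
    · subst hi
      exact Module.Flat.of_linearEquiv ((DRingLib.truncGEXCoker E a).toLinearEquiv.restrictScalars A)
    · haveI := hfree i
      exact Module.Flat.of_linearEquiv ((E.truncGEXIso a i hi).toLinearEquiv.restrictScalars A)
  · let Φ := ModuleCat.restrictScalars.{u} φ
    haveI : QuasiIso ((resCx φ).map (E.πTruncGE a)) :=
      inferInstanceAs (QuasiIso ((Φ.mapHomologicalComplex (ComplexShape.up ℤ)).map (E.πTruncGE a)))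
    haveI : QuasiIso ((resCx φ).map g) :=
      inferInstanceAs (QuasiIso ((Φ.mapHomologicalComplex (ComplexShape.up ℤ)).map g))
    exact (asIso (DerivedCategory.Q.map ((resCx φ).map (E.πTruncGE a)))).symm ≪≫
      asIso (DerivedCategory.Q.map ((resCx φ).map g))

end Groth.Agent.RelFlatLib
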