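import Groth.Agent.RelFlatLib.FibreLocus
import Groth.Agent.FlatLib.OpenFP
import Groth.Agent.DRingLib.Amplitude
import Mathlib.Algebra.Module.LocalizedModule.Exact

/-!
# Finite tor dimension over the base from the fibres
-/

set_option autoImplicit false
set_option linter.style.haveILetI false

universe u

open CategoryTheory CategoryTheory.Limits
open scoped TensorProduct

namespace Groth.Agent.RelFlatLib

variable {R A : Type u} [CommRing R] [CommRing A] [Algebra R A]

theorem flatLocus_subset_of_exact {K F Q : Type u}
    [AddCommGroup K] [Module A K] [Module R K] [IsScalarTower R A K]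
    [AddCommGroup F] [Module A F] [Module R F] [IsScalarTower R A F] [Module.Flat R F]
    [AddCommGroup Q] [Module A Q] [Module R Q] [IsScalarTower R A Q]
    (f : K →ₗ[A] F) (g : F →ₗ[A] Q) (hf : Function.Injective f) (hfg : Function.Exact f g)
    (hg : Function.Surjective g) : FlatLib.flatLocus R A Q ⊆ FlatLib.flatLocus R A K := by
  intro q hq
  let T := q.asIdeal.primeCompl
  haveI : Module.Flat R (LocalizedModule T Q) := hq
  haveI : Module.Flat R (LocalizedModule T F) := by
    rw [Module.Flat.iff_rTensor_preserves_injective_linearMap]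
    intro N N' _ _ _ _ φ hφ
    have h : Function.Injective (φ.rTensor F) :=
      Module.Flat.rTensor_preserves_injective_linearMap φ hφ
    rw [← LinearMap.lTensor_inj_iff_rTensor_inj] at h ⊢
    have := IsLocalizedModule.map_injective T
      (TensorProduct.AlgebraTensorModule.rTensor R N (LocalizedModule.mkLinearMap T F))
      (TensorProduct.AlgebraTensorModule.rTensor R N' (LocalizedModule.mkLinearMap T F))
      (TensorProduct.AlgebraTensorModule.lTensor A F φ) h
    simpa [IsLocalizedModule.map_lTensor] using this
  exact TwoTermLib.KFlatTrunc.flat_of_exact ((LocalizedModule.map T f).restrictScalars R)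
    ((LocalizedModule.map T g).restrictScalars R)
    (LocalizedModule.map_injective T f hf) (LocalizedModule.map_exact T f g hfg)
    (LocalizedModule.map_surjective T g hg)

variable [Module.Flat R A] [Algebra.FinitePresentation R A]

/-- Boundedness below on all fibres gives a truncation with terms flat over the base. -/
theorem exists_flat_truncGE (E : CochainComplex (ModuleCat.{u} A) ℤ)
    (hEf : ∀ i, Module.Free A (E.X i) ∧ Module.Finite A (E.X i)) (a : ℤ)
    (hH : ∀ i, i < a → IsZero (E.homology i))
    (hfib : ∀ p : PrimeSpectrum R, ∃ c : ℤ, ∀ n, n < c →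
      IsZero ((KFlatLib.tensorN (((ModuleCat.restrictScalars.{u} (algebraMap R A)).mapHomologicalComplex
        (ComplexShape.up ℤ)).obj E) (ModuleCat.of R p.asIdeal.ResidueField)).homology n)) :
    ∃ n : ℤ, n ≤ a ∧ ∀ k, Module.Flat R
      (((ModuleCat.restrictScalars.{u} (algebraMap R A)).mapHomologicalComplex
        (ComplexShape.up ℤ)).obj (E.truncGE n) |>.X k) := by
  letI : ∀ M : ModuleCat.{u} A, Module R M := fun M => Module.compHom M (algebraMap R A)
  haveI : ∀ M : ModuleCat.{u} A, IsScalarTower R A M := fun M =>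
    IsScalarTower.of_algebraMap_smul fun _ _ => rfl
  haveI := fun i => (hEf i).1
  haveI := fun i => (hEf i).2
  haveI hflat : ∀ i, Module.Flat R (E.X i) := fun i => Module.Flat.trans R A (E.X i)
  let U : ℤ → Set (PrimeSpectrum A) := fun n =>
    FlatLib.flatLocus R A (E.X n ⧸ LinearMap.range (E.d (n - 1) n).hom)
  have hUo : ∀ n, IsOpen (U n) := fun n => by
    haveI : Module.FinitePresentation A (E.X n) := Module.finitePresentation_of_projective A _
    haveI : Module.FinitePresentation A (E.X n ⧸ LinearMap.range (E.d (n - 1) n).hom) :=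
      Module.finitePresentation_of_surjective _ (Submodule.mkQ_surjective _) (by
        rw [Submodule.ker_mkQ, LinearMap.range_eq_map]
        exact Module.Finite.fg_top.map _)
    exact FlatLib.isOpen_flatLocus_fp
  have hex : ∀ j k : ℤ, j + 1 = k → j < a → ∀ z : E.X j, (E.d j k).hom z = 0 →
      ∃ y, (E.d (j - 1) j).hom y = z := fun j k hjk hj =>
    (KFlatLib.isZero_homology_iff_exists E (j - 1) j k (by omega) hjk).1 (hH j hj)
  have hstep : ∀ j k : ℤ, j + 1 = k → j < a → U k ⊆ U j := by
    intro j k hjk hj
    obtain rfl : j = k - 1 := by omega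
    refine flatLocus_subset_of_exact
      ((LinearMap.range (E.d (k - 1 - 1) (k - 1)).hom).liftQ (E.d (k - 1) k).hom ?_)
      (LinearMap.range (E.d (k - 1) k).hom).mkQ ?_ ?_ (Submodule.mkQ_surjective _)
    · rintro _ ⟨y, rfl⟩
      exact congrArg (fun q => q.hom y) (E.d_comp_d (k - 1 - 1) (k - 1) k)
    · rw [← LinearMap.ker_eq_bot, Submodule.ker_liftQ_eq_bot]
      intro z hz
      obtain ⟨y, hy⟩ := hex (k - 1) k hjk hj z hz
      exact ⟨y, hy⟩
    · rw [LinearMap.exact_iff, Submodule.ker_mkQ, Submodule.range_liftQ]
  let V : ℕ → Set (PrimeSpectrum A) := fun m => U (a - m)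
  have hV : Monotone V := monotone_nat_of_le_succ fun m =>
    hstep (a - (m + 1 : ℕ)) (a - m) (by push_cast; ring) (by push_cast; omega)
  have hcov : (Set.univ : Set (PrimeSpectrum A)) ⊆ ⋃ m, V m := by
    intro q _
    obtain ⟨c, hc⟩ := hfib ⟨q.asIdeal.under R, inferInstance⟩
    let m : ℕ := (a - c).toNat + 1
    have hn : a - (m : ℤ) < c := by
      have := Int.self_le_toNat (a - c)
      push_cast [m]
      omega
    refine Set.mem_iUnion.2 ⟨m, ?_⟩
    refine mem_flatLocus_coker q (E.d (a - m - 1) (a - m)).hom (E.d (a - m) (a - m + 1)).hom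
      (fun x => congrArg (fun w => w.hom x) (E.d_comp_d (a - m - 1) (a - m) (a - m + 1))) fun z hz => ?_
    have h := (KFlatLib.isZero_homology_iff_exists _ (a - m - 1) (a - m) (a - m + 1) (by omega) rfl).1
      (hc _ hn)
    let e₀ := fun n : ℤ => TensorProduct.comm R (q.asIdeal.under R).ResidueField (E.X n)
    have hcomm : ∀ (i j : ℤ) (w : (q.asIdeal.under R).ResidueField ⊗[R] (E.X i)),
        ((E.d i j).hom.restrictScalars R).rTensor _ (e₀ i w) =
          e₀ j (((E.d i j).hom.restrictScalars R).lTensor _ w) := fun i j w => by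
      induction w using TensorProduct.induction_on with
      | zero => simp
      | add x y hx hy => simp [hx, hy]
      | tmul x y => simp [e₀]
    obtain ⟨y, hy⟩ := h (e₀ _ z) ((hcomm _ _ z).trans ((congrArg _ hz).trans (map_zero _)))
    refine ⟨(e₀ _).symm y, (e₀ _).injective ?_⟩
    exact (hcomm _ _ _).symm.trans ((congrArg _ ((e₀ _).apply_symm_apply y)).trans hy)
  obtain ⟨m, hm⟩ := isCompact_univ.elim_directed_cover V (fun m => hUo _) hcov hV.directed_le
  let n := a - m
  refine ⟨n, by omega, fun k => ?_⟩
  show Module.Flat R ((E.truncGE n).X k)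
  rcases lt_trichotomy k n with hk | hk | hk
  · haveI := ModuleCat.subsingleton_of_isZero (CochainComplex.isZero_of_isStrictlyGE (E.truncGE n) n k hk)
    infer_instance
  · subst hk
    let C := E.X n ⧸ LinearMap.range (E.d (n - 1) n).hom
    haveI : Module.Flat R C :=
      Module.flat_of_isLocalized_maximal (R := R) A C (fun P _ => LocalizedModule P.primeCompl C)
        (fun P _ => LocalizedModule.mkLinearMap P.primeCompl C)
        (fun P hP => hm (Set.mem_univ (⟨P, hP.isPrime⟩ : PrimeSpectrum A)))
    exact Module.Flat.of_linearEquiv ((DRingLib.truncGEXCoker E n).toLinearEquiv.restrictScalars R)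
  · exact Module.Flat.of_linearEquiv ((E.truncGEXIso n k hk).toLinearEquiv.restrictScalars R)

end Groth.Agent.RelFlatLib
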