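import Groth.Agent.RelFlatLib.FibreCoker
import Groth.Agent.PerfFibreLib.SplitAway
import Groth.Agent.FlatLib.Openness
import Mathlib.RingTheory.Localization.BaseChange
import Mathlib.RingTheory.Localization.AtPrime.Basic
import Mathlib.RingTheory.Flat.Localization

/-!
# Flatness of cokernels at a point from exactness on the fibre
-/

set_option autoImplicit false
set_option linter.style.haveILetI false

universe u

open scoped TensorProduct

namespace Groth.Agent.RelFlatLib

section Residue

variable {R : Type u} [CommRing R] (p : Ideal R) [p.IsPrime]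

theorem isLocalizedModule_residue :
    IsLocalizedModule p.primeCompl
      (IsScalarTower.toAlgHom R (R ⧸ p) p.ResidueField).toLinearMap := by
  refine isLocalizedModule_iff_isLocalization.mpr ?_
  have h : Algebra.algebraMapSubmonoid (R ⧸ p) p.primeCompl = nonZeroDivisors (R ⧸ p) := by
    ext x
    obtain ⟨r, rfl⟩ := Ideal.Quotient.mk_surjective x
    rw [mem_nonZeroDivisors_iff_ne_zero, ne_eq, Ideal.Quotient.eq_zero_iff_mem]
    refine ⟨?_, fun hr => ⟨r, hr, rfl⟩⟩
    rintro ⟨t, ht, hte⟩ hr
    exact ht (Ideal.Quotient.eq_zero_iff_mem.1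
      (hte.trans (Ideal.Quotient.eq_zero_iff_mem.2 hr)))
  rw [h]
  exact inferInstanceAs (IsFractionRing (R ⧸ p) p.ResidueField)

/-- Elements vanishing in the fibre. -/
theorem exists_smul_mem_of_one_tmul_eq_zero {M : Type u} [AddCommGroup M] [Module R M] {x : M}
    (h : (1 : p.ResidueField) ⊗ₜ[R] x = 0) : ∃ u ∉ p, u • x ∈ p • (⊤ : Submodule R M) := by
  haveI := isLocalizedModule_residue p
  let j := (IsScalarTower.toAlgHom R (R ⧸ p) p.ResidueField).toLinearMap
  have h' : TensorProduct.AlgebraTensorModule.rTensor R M j ((1 : R ⧸ p) ⊗ₜ[R] x) = 0 := by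
    simpa [j] using h
  obtain ⟨⟨u, hu⟩, hux⟩ :=
    (IsLocalizedModule.eq_zero_iff p.primeCompl (TensorProduct.AlgebraTensorModule.rTensor R M j)).1 h'
  refine ⟨u, hu, (Submodule.Quotient.mk_eq_zero _).1 ?_⟩
  have h2 : (1 : R ⧸ p) ⊗ₜ[R] (u • x) = 0 := by
    rw [TensorProduct.tmul_smul]
    exact hux
  have h3 := congrArg (TensorProduct.quotTensorEquivQuotSMul M p) h2
  rwa [map_zero, ← map_one (Ideal.Quotient.mk p), TensorProduct.quotTensorEquivQuotSMul_mk_tmul,
    one_smul] at h3

theorem one_tmul_eq_zero_of_mem {M : Type u} [AddCommGroup M] [Module R M] {x : M}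
    (h : x ∈ p • (⊤ : Submodule R M)) : (1 : p.ResidueField) ⊗ₜ[R] x = 0 := by
  refine Submodule.smul_induction_on h (fun a ha y _ => ?_) fun y z hy hz => ?_
  · rw [← TensorProduct.smul_tmul, Algebra.smul_def, Ideal.algebraMap_residueField_eq_zero.2 ha,
      zero_mul, TensorProduct.zero_tmul]
  · rw [TensorProduct.tmul_add, hy, hz, add_zero]

end Residue

section EssFP

variable {R A : Type u} [CommRing R] [CommRing A] [Algebra R A] [Algebra.FinitePresentation R A]
  (p : Ideal R) [p.IsPrime] (q : Ideal A) [q.IsPrime] [q.LiesOver p]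

theorem isEssFP_atPrime :
    letI := Localization.AtPrime.algebraOfLiesOver p q
    CAlgX.IsEssFinitePresentation (Localization.AtPrime p) (Localization.AtPrime q) := by
  letI := Localization.AtPrime.algebraOfLiesOver p q
  let A' := Localization.AtPrime p
  let B := Localization.AtPrime q
  letI : Algebra A (A' ⊗[R] A) := Algebra.TensorProduct.rightAlgebra
  let l : A' ⊗[R] A →ₐ[A'] B := Algebra.TensorProduct.lift (Algebra.ofId A' B)
    (IsScalarTower.toAlgHom R A B) fun _ _ => mul_comm _ _
  letI : Algebra (A' ⊗[R] A) B := l.toRingHom.toAlgebra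
  haveI : IsScalarTower A' (A' ⊗[R] A) B :=
    IsScalarTower.of_algebraMap_eq fun a => (l.commutes a).symm
  haveI : IsScalarTower A (A' ⊗[R] A) B := IsScalarTower.of_algebraMap_eq fun s => by
    show algebraMap A B s = l ((1 : A') ⊗ₜ s)
    rw [show l ((1 : A') ⊗ₜ[R] s) = Algebra.ofId A' B 1 * IsScalarTower.toAlgHom R A B s from
      Algebra.TensorProduct.lift_tmul _ _ _ _ _, map_one, one_mul]
    rfl
  haveI : IsLocalization (Algebra.algebraMapSubmonoid A p.primeCompl) (A' ⊗[R] A) :=
    IsLocalization.tensorRight (R := R) (S := A) A' p.primeCompl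
  have hle : Algebra.algebraMapSubmonoid A p.primeCompl ≤ q.primeCompl := by
    rintro _ ⟨r, hr, rfl⟩ hq
    exact hr ((Ideal.mem_of_liesOver q p r).2 hq)
  exact ⟨A' ⊗[R] A, inferInstance, inferInstance, inferInstance, inferInstance,
    q.primeCompl.map (algebraMap A (A' ⊗[R] A)), inferInstance,
    IsLocalization.isLocalization_of_submonoid_le (A' ⊗[R] A) B _ _ hle⟩

end EssFP

/-- A cokernel is flat at a prime where the tensored complex is exact on the fibre. -/
theorem mem_flatLocus_coker {R A : Type u} [CommRing R] [CommRing A] [Algebra R A] [Module.Flat R A]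
    [Algebra.FinitePresentation R A] (q : PrimeSpectrum A)
    {L M N : Type u} [AddCommGroup L] [Module A L] [Module R L] [IsScalarTower R A L] [Module.Finite A L]
    [AddCommGroup M] [Module A M] [Module R M] [IsScalarTower R A M] [Module.Finite A M] [Module.Free A M]
    [AddCommGroup N] [Module A N] [Module R N] [IsScalarTower R A N] [Module.Finite A N] [Module.Free A N]
    (f : L →ₗ[A] M) (g : M →ₗ[A] N) (hgf : ∀ x, g (f x) = 0)
    (hex : ∀ z : (q.asIdeal.under R).ResidueField ⊗[R] M,
      (g.restrictScalars R).lTensor _ z = 0 → z ∈ LinearMap.range ((f.restrictScalars R).lTensor _)) :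
    q ∈ FlatLib.flatLocus R A (M ⧸ LinearMap.range f) := by
  let p := q.asIdeal.under R
  let A' := Localization.AtPrime p
  let B := Localization.AtPrime q.asIdeal
  letI := Localization.AtPrime.algebraOfLiesOver p q.asIdeal
  haveI : SMulCommClass A A' B := ⟨fun a a' b => by
    simp only [Algebra.smul_def]
    exact mul_left_comm _ _ _⟩
  haveI : IsLocalHom (algebraMap A' B) := Localization.isLocalHom_localRingHom _ _ _ _
  haveI : Module.Flat R B := Module.Flat.trans R A B
  haveI : Module.Flat A' B := Module.flat_iff_of_isLocalization A' p.primeCompl B |>.mpr inferInstance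
  let J : Ideal B := p.map (algebraMap R B)
  have hJ : J = (IsLocalRing.maximalIdeal A').map (algebraMap A' B) := by
    rw [← Localization.AtPrime.map_eq_maximalIdeal, Ideal.map_map, ← IsScalarTower.algebraMap_eq]
  have hmemJ : ∀ {X : Type u} [AddCommGroup X] [Module A X] [Module R X] [IsScalarTower R A X] (x : X),
      x ∈ p • (⊤ : Submodule R X) → (1 : B) ⊗ₜ[A] x ∈ J • (⊤ : Submodule B (B ⊗[A] X)) := by
    intro X _ _ _ _ x hx
    refine Submodule.smul_induction_on hx (fun a ha y _ => ?_) fun y z hy hz => ?_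
    · rw [← algebraMap_smul A a y, ← TensorProduct.smul_tmul, Algebra.smul_def, mul_one,
        ← IsScalarTower.algebraMap_apply]
      have : algebraMap R B a ⊗ₜ[A] y = algebraMap R B a • ((1 : B) ⊗ₜ[A] y) := by
        rw [TensorProduct.smul_tmul', smul_eq_mul, mul_one]
      rw [this]
      exact Submodule.smul_mem_smul (Ideal.mem_map_of_mem _ ha) Submodule.mem_top
    · rw [TensorProduct.tmul_add]
      exact add_mem hy hz
  have hloc : ∀ (X : Type u) [AddCommGroup X] [Module A X],
      IsLocalizedModule q.asIdeal.primeCompl (TensorProduct.mk A B X 1) := fun X _ _ =>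
    (isLocalizedModule_iff_isBaseChange q.asIdeal.primeCompl B _).2 (TensorProduct.isBaseChange A X B)
  have hunit : ∀ {r : R}, r ∉ p → IsUnit (algebraMap R B r) := fun {r} hr => by
    rw [IsScalarTower.algebraMap_apply R A B]
    exact IsLocalization.map_units B (⟨algebraMap R A r, hr⟩ : q.asIdeal.primeCompl)
  have key : ∀ z : B ⊗[A] M, g.baseChange B z ∈ J • (⊤ : Submodule B (B ⊗[A] N)) →
      z ∈ LinearMap.range (f.baseChange B) ⊔ J • (⊤ : Submodule B (B ⊗[A] M)) := by
    intro z hz
    haveI := hloc M
    haveI := hloc (N ⧸ (p.map (algebraMap R A)) • (⊤ : Submodule A N))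
    obtain ⟨⟨z₀, s⟩, hs⟩ := IsLocalizedModule.surj q.asIdeal.primeCompl (TensorProduct.mk A B M 1) z
    have hs' : algebraMap A B s.1 • z = (1 : B) ⊗ₜ[A] z₀ := by
      rw [algebraMap_smul]
      exact hs
    let π := ((p.map (algebraMap R A)) • (⊤ : Submodule A N)).mkQ
    have hπ : J • (⊤ : Submodule B (B ⊗[A] N)) ≤ LinearMap.ker (π.baseChange B) := by
      rw [Submodule.smul_le]
      intro j hj n _
      rw [LinearMap.mem_ker, map_smul]
      generalize π.baseChange B n = w
      refine Submodule.span_induction (p := fun j _ => j • w = 0) ?_ (zero_smul B w)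
        (fun a b _ _ ha hb => by rw [add_smul, ha, hb, add_zero])
        (fun a b _ hb => by rw [smul_assoc, hb, smul_zero]) hj
      rintro _ ⟨a, ha, rfl⟩
      rw [IsScalarTower.algebraMap_apply R A B, algebraMap_smul]
      induction w using TensorProduct.induction_on with
      | zero => simp
      | add x y hx hy => rw [smul_add, hx, hy, add_zero]
      | tmul b y =>
        obtain ⟨y, rfl⟩ := Submodule.Quotient.mk_surjective _ y
        rw [← TensorProduct.tmul_smul, ← Submodule.Quotient.mk_smul,
          (Submodule.Quotient.mk_eq_zero _).2 (Submodule.smul_mem_smul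
            (Ideal.mem_map_of_mem _ ha) Submodule.mem_top), TensorProduct.tmul_zero]
    have h1 : TensorProduct.mk A B _ 1 (π (g z₀)) = 0 := by
      have : π.baseChange B (g.baseChange B (algebraMap A B s.1 • z)) = 0 :=
        hπ (by rw [map_smul]; exact Submodule.smul_mem _ _ hz)
      rw [hs'] at this
      simpa using this
    obtain ⟨⟨t, ht⟩, hte⟩ := (IsLocalizedModule.eq_zero_iff q.asIdeal.primeCompl _).1 h1
    have h2 : g (t • z₀) ∈ (p.map (algebraMap R A)) • (⊤ : Submodule A N) := by
      rw [← Submodule.Quotient.mk_eq_zero, map_smul, Submodule.Quotient.mk_smul]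
      exact hte
    have h3 : g (t • z₀) ∈ p • (⊤ : Submodule R N) := by
      have e := Ideal.smul_restrictScalars p (⊤ : Submodule A N)
      rw [Submodule.restrictScalars_top] at e
      rw [← e]
      exact h2
    obtain ⟨w, hw⟩ := hex ((1 : p.ResidueField) ⊗ₜ[R] (t • z₀))
      (by rw [LinearMap.lTensor_tmul]; exact one_tmul_eq_zero_of_mem p h3)
    obtain ⟨c, hc, y, hy⟩ := PerfFibreLib.exists_smul_eq_one_tmul p w
    have h4 : (1 : p.ResidueField) ⊗ₜ[R] (c • (t • z₀) - f y) = 0 := by
      rw [TensorProduct.tmul_sub, TensorProduct.tmul_smul, ← hw, ← map_smul, hy,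
        LinearMap.lTensor_tmul]
      exact sub_self _
    obtain ⟨c', hc', h5⟩ := exists_smul_mem_of_one_tmul_eq_zero p h4
    have hu : IsUnit (algebraMap R B c' * algebraMap R B c * algebraMap A B t * algebraMap A B s.1) :=
      (((hunit hc').mul (hunit hc)).mul (IsLocalization.map_units B (⟨t, ht⟩ : q.asIdeal.primeCompl))).mul
        (IsLocalization.map_units B s)
    rw [← Submodule.smul_mem_iff_of_isUnit _ hu, mul_smul, hs', mul_smul, mul_smul]
    have e6 : algebraMap R B c' • algebraMap R B c • algebraMap A B t • ((1 : B) ⊗ₜ[A] z₀) =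
        f.baseChange B ((1 : B) ⊗ₜ[A] (c' • y)) + (1 : B) ⊗ₜ[A] (c' • (c • (t • z₀) - f y)) := by
      rw [LinearMap.baseChange_tmul, ← TensorProduct.tmul_add, LinearMap.map_smul_of_tower,
        ← smul_add, add_sub_cancel]
      simp only [IsScalarTower.algebraMap_apply R A B, algebraMap_smul, ← TensorProduct.tmul_smul]
    rw [e6]
    exact Submodule.add_mem _ (Submodule.mem_sup_left ⟨_, rfl⟩) (Submodule.mem_sup_right (hmemJ _ h5))
  have hflat : Module.Flat A' ((B ⊗[A] M) ⧸ LinearMap.range (f.baseChange B)) :=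
    flat_coker_of_mod (isEssFP_atPrime p q.asIdeal) J hJ (f.baseChange B) (g.baseChange B)
      (fun x => by
        rw [← LinearMap.comp_apply, ← LinearMap.baseChange_comp,
          show g ∘ₗ f = 0 from LinearMap.ext hgf]
        simp) key
  haveI := hflat
  haveI : Module.Flat R ((B ⊗[A] M) ⧸ LinearMap.range (f.baseChange B)) :=
    Module.Flat.trans R A' _
  let C := M ⧸ LinearMap.range f
  let mk' : B ⊗[A] M →ₗ[B] B ⊗[A] C := (LinearMap.range f).mkQ.baseChange B
  have hexact : Function.Exact ⇑(f.baseChange B) ⇑mk' :=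
    lTensor_exact B (LinearMap.exact_map_mkQ_range f) (Submodule.mkQ_surjective _)
  have hk : LinearMap.range (f.baseChange B) = LinearMap.ker mk' := hexact.linearMap_ker_eq.symm
  let e : ((B ⊗[A] M) ⧸ LinearMap.range (f.baseChange B)) ≃ₗ[B] B ⊗[A] C :=
    (Submodule.quotEquivOfEq _ _ hk).trans (mk'.quotKerEquivOfSurjective
      (LinearMap.lTensor_surjective B (Submodule.mkQ_surjective _)))
  haveI := hloc C
  show Module.Flat R (LocalizedModule q.asIdeal.primeCompl C)
  exact Module.Flat.of_linearEquiv
    (((IsLocalizedModule.iso q.asIdeal.primeCompl (TensorProduct.mk A B C 1)).restrictScalars R).trans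
      (e.symm.restrictScalars R))

end Groth.Agent.RelFlatLib
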