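import Groth.Agent.RelFlatLib.LpullStalk
import Groth.Agent.KFlatLib.StalkCx

/-!
# Stalks of `Lf^* G ⊗^L F` and tor amplitude
-/

set_option autoImplicit false
set_option linter.style.haveILetI false
set_option backward.isDefEq.respectTransparency false
set_option backward.isDefEq.respectTransparency.types false

universe u

open CategoryTheory CategoryTheory.Limits AlgebraicGeometry HomologicalComplex MonoidalCategory

attribute [local instance] HasDerivedCategory.standard

namespace Groth.Agent.RelFlatLib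

open TwoTermLib.RelAmp (resCx)

section Ring

variable {A B C : Type u} [CommRing A] [CommRing B] [CommRing C] (φ : A →+* B) (ψ : B →+* C)

/-- Tensor products with a complex of amplitude `[a, b]` over the base spread cohomology accordingly. -/
theorem isZero_homology_tensor_ext {F : CochainComplex (ModuleCat.{u} C) ℤ} {a b : ℤ}
    (hF : DRing.HasTorAmplitudeIn B a b (DerivedCategory.Q.obj ((resCx ψ).obj F)))
    {M : CochainComplex (ModuleCat.{u} B) ℤ} (hM : DRing.IsKFlat B M) {c d : ℤ}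
    (hH : ∀ j, (j < c ∨ d < j) → IsZero (M.homology j)) (i : ℤ) (hi : i < a + c ∨ b + d < i) :
    IsZero ((((DRingLib.extCx ψ).obj M) ⊗ F).homology i) := by
  obtain ⟨E, hEv, hEf, ⟨eE⟩⟩ := hF
  have hE : DRing.IsKFlat B E := DRingLib.isKFlat_of_flatAmplitude hEv hEf
  let H := HomologicalComplex.homologyFunctor (ModuleCat.{u} C) (ComplexShape.up ℤ) i
  refine IsZero.of_iso ?_ (H.mapIso (KFlatLib.tensorFlipIso F ((DRingLib.extCx ψ).obj M)))
  refine (TwoTermLib.RelAmp.isZero_tensor_res_iff ψ F M i).1 ?_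
  refine (TwoTermLib.KFlatTrunc.isZero_tensor_iff_of_iso hM eE i).1 ?_
  refine IsZero.of_iso ?_
    ((HomologicalComplex.homologyFunctor (ModuleCat.{u} B) (ComplexShape.up ℤ) i).mapIso
      (KFlatLib.tensorFlipIso E M))
  haveI : M.IsLE d := by
    rw [CochainComplex.isLE_iff]
    exact fun j hj => (HomologicalComplex.exactAt_iff_isZero_homology _ j).2 (hH j (Or.inr hj))
  haveI : QuasiIso (M.ιTruncLE d) := (CochainComplex.quasiIso_ιTruncLE_iff M d).2 inferInstance
  let M₁ := M.truncLE d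
  have hM₁ : ∀ j, j < c → IsZero (M₁.homology j) := fun j hj => by
    have : IsIso (HomologicalComplex.homologyMap (M.ιTruncLE d) j) :=
      (quasiIsoAt_iff_isIso_homologyMap _ _).mp (QuasiIso.quasiIsoAt j)
    exact (hH j (Or.inl hj)).of_iso (asIso (HomologicalComplex.homologyMap (M.ιTruncLE d) j))
  haveI : M₁.IsGE c := by
    rw [CochainComplex.isGE_iff]
    exact fun j hj => (HomologicalComplex.exactAt_iff_isZero_homology _ j).2 (hM₁ j hj)
  haveI : QuasiIso (M₁.πTruncGE c) := (CochainComplex.quasiIso_πTruncGE_iff M₁ c).mpr inferInstance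
  have q₁ := (KFlatLib.quasiIso_tMap_left hE (M.ιTruncLE d)).quasiIsoAt i
  have q₂ := (KFlatLib.quasiIso_tMap_left hE (M₁.πTruncGE c)).quasiIsoAt i
  rw [quasiIsoAt_iff_isIso_homologyMap] at q₁ q₂
  have hT := DRingLib.vanishesOutside_truncGE (P := M₁) (b := d)
    (fun j hj => CochainComplex.isZero_of_isStrictlyLE M₁ d j hj) c
  refine IsZero.of_iso ?_ ((@asIso _ _ _ _ _ q₁).symm ≪≫ @asIso _ _ _ _ _ q₂)
  refine (HomologicalComplex.exactAt_iff_isZero_homology _ i).mp
    (ShortComplex.exact_of_isZero_X₂ _ (TwoTermLib.LTCx.isZero_tensor_X i fun p q hpq => ?_))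
  by_cases hp : p < a ∨ b < p
  · exact Or.inl (hEv p hp)
  · exact Or.inr (hT q (by omega))

/-- Tor amplitude over the base of `(P ⊗_B C) ⊗_C F`. -/
theorem amp_res_ext_tensor {χ : A →+* C} (h : χ = ψ.comp φ)
    {F : CochainComplex (ModuleCat.{u} C) ℤ} {a b : ℤ}
    (hF : DRing.HasTorAmplitudeIn B a b (DerivedCategory.Q.obj ((resCx ψ).obj F)))
    {P : CochainComplex (ModuleCat.{u} B) ℤ} (hP : DRing.IsKFlat B P) {c d : ℤ}
    (hamp : DRing.HasTorAmplitudeIn A c d (DerivedCategory.Q.obj ((resCx φ).obj P))) :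
    DRing.HasTorAmplitudeIn A (a + c) (b + d)
      (DerivedCategory.Q.obj ((resCx χ).obj (((DRingLib.extCx ψ).obj P) ⊗ F))) :=
  (TwoTermLib.RelAmp.hasTorAmplitudeIn_res_iff χ _ _ _).2 fun i hi N => by
    let N' := (projectiveResolution N).cochainComplex
    let Q := (DRingLib.extCx φ).obj N'
    have hQ : DRing.IsKFlat B Q :=
      KFlatLib.isKFlat_extend φ (DRingLib.isKFlat_projectiveResolution (projectiveResolution N))
    have hM : DRing.IsKFlat B (P ⊗ Q) := KFlatLib.isKFlat_tensor_ring hP hQ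
    have hH : ∀ j, (j < c ∨ d < j) → IsZero ((P ⊗ Q).homology j) := fun j hj =>
      (TwoTermLib.RelAmp.hasTorAmplitudeIn_res_iff φ P c d).1 hamp j hj N
    have hz := isZero_homology_tensor_ext ψ hF hM hH i hi
    let P' := (DRingLib.extCx ψ).obj P
    let Q' := (DRingLib.extCx χ).obj N'
    let e : (P' ⊗ F) ⊗ Q' ≅ ((DRingLib.extCx ψ).obj (P ⊗ Q)) ⊗ F :=
      α_ P' F Q' ≪≫ MonoidalCategory.tensorIso (Iso.refl P') (KFlatLib.tensorFlipIso Q' F) ≪≫
        (α_ P' Q' F).symm ≪≫
        MonoidalCategory.tensorIso (TwoTermLib.RelAmp.baseChangeIso φ ψ h P N') (Iso.refl F)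
    exact IsZero.of_iso hz ((HomologicalComplex.homologyFunctor (ModuleCat.{u} C) (ComplexShape.up ℤ) i).mapIso e)

end Ring

variable {X Y : Scheme.{u}} (f : X ⟶ Y)

/-- The stalk complex of `f^* P ⊗ F`. -/
noncomputable def stalkPullTensorIso (x : X) (P : CochainComplex Y.Modules ℤ) (F : CochainComplex X.Modules ℤ) :
    (KFlatLib.stalkCx X x).obj (((DCoh.tensorCx (X := X)).obj ((KFlatLib.pullCx f).obj P)).obj F) ≅
      ((KFlatLib.extCx f x).obj ((KFlatLib.stalkCx Y (f x)).obj P)) ⊗ (KFlatLib.stalkCx X x).obj F :=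
  (KFlatLib.stalkTensorCxIso x ((KFlatLib.pullCx f).obj P) F).symm ≪≫
    MonoidalCategory.tensorIso (KFlatLib.stalkPullCxIso f x P) (Iso.refl _)

end Groth.Agent.RelFlatLib
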