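import Groth.Agent.RelFlatLib.Absolute
import Groth.Agent.RelFlatLib.TorDim
import Groth.Agent.ProjClosedImmLib.Stalk

/-!
# Stalks of direct images along closed immersions and relative tor amplitude
-/

set_option autoImplicit false
set_option linter.style.haveILetI false
set_option backward.isDefEq.respectTransparency false
set_option backward.isDefEq.respectTransparency.types false

universe u

open CategoryTheory CategoryTheory.Limits AlgebraicGeometry

attribute [local instance] HasDerivedCategory.standard

namespace Groth.Agent.RelFlatLib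

variable {X Y S : Scheme.{u}} (i : X ⟶ Y) [IsClosedImmersion i] (g : Y ⟶ S)

/-- The stalks of a direct image, over the local ring of the base. -/
noncomputable def stalkOverPush (x : X) :
    Scheme.Modules.pushforward i ⋙ DerSch.stalkOver g (i x) ≅ DerSch.stalkOver (i ≫ g) x :=
  NatIso.ofComponents
    (fun M => LinearEquiv.toModuleIso
      ({ AddEquiv.ofBijective (ProjClosedImmLib.pS i x M) (ProjClosedImmLib.pS_bijective i x M) with
          map_smul' := fun r n => by
            refine (ProjClosedImmLib.pS_smul i x M ((g.stalkMap (i x)).hom r) n).trans ?_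
            change _ = ((i ≫ g).stalkMap x).hom r • ProjClosedImmLib.pS i x M n
            rw [Scheme.Hom.stalkMap_comp]
            rfl } :
        ((Scheme.Modules.pushforward i ⋙ DerSch.stalkOver g (i x)).obj M) ≃ₗ[S.presheaf.stalk (g.base (i x))]
          ((DerSch.stalkOver (i ≫ g) x).obj M)))
    fun {M N} φ => by
      apply ModuleCat.hom_ext
      apply LinearMap.ext
      intro a
      exact ConcreteCategory.congr_hom (ProjClosedImmLib.pushStalk_natural i x φ) a

theorem ampAt_push_iff (x : X) (a b : ℤ) (F : CochainComplex X.Modules ℤ) :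
    DerSch.HasTorAmplitudeAt g a b
        (((Scheme.Modules.pushforward i).mapHomologicalComplex (ComplexShape.up ℤ)).obj F) (i x) ↔
      DerSch.HasTorAmplitudeAt (i ≫ g) a b F x := by
  let e := DerivedCategory.Q.mapIso
    ((NatIso.mapHomologicalComplex (stalkOverPush i g x) (ComplexShape.up ℤ)).app F)
  exact ⟨DRingLib.hasTorAmplitudeIn_of_iso e, DRingLib.hasTorAmplitudeIn_of_iso e.symm⟩

variable [Flat g]

omit [IsClosedImmersion i] in
theorem amp_of_flatAmp {F : CochainComplex Y.Modules ℤ} {a b : ℤ}
    (h : DCoh.HasFlatAmplitudeIn a b (DCoh.toD Y F)) : DerSch.HasTorAmplitude g a b F := by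
  obtain ⟨E, h1, h2, he⟩ := h
  exact amp_of_relFlatAmp g ⟨E, h1, fun n => isFlatOver_of_isFlat g (h2 n), he⟩

theorem amp_of_flatAmp_push {F : CochainComplex X.Modules ℤ} {a b : ℤ}
    (h : DCoh.HasFlatAmplitudeIn a b
      (DCoh.toD Y (((Scheme.Modules.pushforward i).mapHomologicalComplex (ComplexShape.up ℤ)).obj F))) :
    DerSch.HasTorAmplitude (i ≫ g) a b F :=
  fun x => (ampAt_push_iff i g x a b F).1 (amp_of_flatAmp g h (i x))

end Groth.Agent.RelFlatLib
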